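/-
Generators for short presentations of Ω⁺.

* `exists_pair_sl2`: SL_2 from two elements, the first one normally generating.
* `exists_pair_sl`: SL_m from two elements.
* `emF`: SL_m at the indices of an injective map.
-/
import Cfsg.Agent.Lib.CurtisTitsD.Torus
import Cfsg.Agent.Lib.SLPresent.Field
import Cfsg.Agent.S2278
import Cfsg.Agent.Lib.RegUnip.SLPairMain

set_option autoImplicit false

open Matrix

namespace Cfsg.Agent.OrthPresent

open CurtisTitsA CurtisTitsD

variable {F : Type*} [Field F]

local notation "SL2" => Matrix.SpecialLinearGroup (Fin 2) F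
local notation "u₂" => (fun t : F => (tv zero_ne_one2 t : Matrix.SpecialLinearGroup (Fin 2) F))

theorem mem_of_upper_w2 {H : Subgroup SL2} (hu : ∀ t : F, tv zero_ne_one2 t ∈ H) (hw : (w2 : SL2) ∈ H) :
    H = ⊤ := by
  have hl : ∀ t : F, tv zero_ne_one2.symm t ∈ H := fun t => by
    have e : (tv zero_ne_one2.symm t : SL2) = w2 * tv zero_ne_one2 (-t) * w2⁻¹ := by
      rw [eq_mul_inv_iff_mul_eq, w2_u, neg_neg]
    rw [e]; exact mul_mem (mul_mem hw (hu _)) (inv_mem hw)
  rw [eq_top_iff]
  intro A _
  exact sl2_induction (p := fun A => A ∈ H) (one_mem _) (fun _ _ a b => mul_mem a b) hu hl A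

/-- Additive subgroups stable under the squares contain everything once non-trivial. -/
theorem mem_of_square_stable [Finite F] (ω : Fˣ) (hω : ∀ x : Fˣ, x ∈ Subgroup.zpowers ω) (A : AddSubgroup F)
    {c : F} (hc : c ≠ 0) (hcA : c ∈ A) (hmul : ∀ a ∈ A, (ω : F) ^ 2 * a ∈ A) (t : F) : t ∈ A := by
  obtain ⟨P, hP⟩ := SLPresent.aeval_pow_surjective ω hω 2 (Or.inl ⟨by norm_num, le_rfl⟩) (t / c)
  have key : ∀ (Q : Polynomial ℤ), ∀ a ∈ A, Polynomial.aeval ((ω : F) ^ 2) Q * a ∈ A := by
    intro Q
    induction Q using Polynomial.induction_on' with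
    | add p q hp hq => intro a ha; rw [map_add, add_mul]; exact add_mem (hp a ha) (hq a ha)
    | monomial n z =>
      intro a ha
      rw [Polynomial.aeval_monomial, eq_intCast, mul_assoc, ← zsmul_eq_mul]
      refine AddSubgroup.zsmul_mem _ ?_ z
      induction n with
      | zero => simpa using ha
      | succ n ih => rw [pow_succ', mul_assoc]; exact hmul _ ih
  have := key P c hcA
  simp only at hP
  rwa [hP, div_mul_cancel₀ t hc] at this

/-- SL_2 from two elements, the first one normally generating. -/
theorem exists_pair_sl2 [Finite F] :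
    ∃ x y : SL2, Subgroup.closure {x, y} = ⊤ ∧ Subgroup.normalClosure {x} = ⊤ := by
  classical
  obtain ⟨ω, hω, -⟩ := PSL2.Pres.exists_generator (F := F)
  by_cases h1 : (ω : F) ^ 2 = 1
  · -- the fields with two and three elements
    have hz : ∀ t : F, ∃ z : ℤ, t = z := by
      intro t
      by_cases ht : t = 0
      · exact ⟨0, by simp [ht]⟩
      obtain ⟨i, hi⟩ := hω (Units.mk0 t ht)
      rcases mul_self_eq_one_iff.1 (show (ω : F) * ω = 1 by rw [← pow_two, h1]) with e | e
      · exact ⟨1, by
          have := congrArg Units.val hi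
          simp only [Units.val_zpow_eq_zpow_val, e, _root_.one_zpow, Units.val_mk0] at this
          simp [← this]⟩
      · rcases Int.even_or_odd i with hev | hodd
        · exact ⟨1, by
            have := congrArg Units.val hi
            simp only [Units.val_zpow_eq_zpow_val, e, hev.neg_one_zpow, Units.val_mk0] at this
            simp [← this]⟩
        · exact ⟨-1, by
            have := congrArg Units.val hi
            simp only [Units.val_zpow_eq_zpow_val, e, hodd.neg_one_zpow, Units.val_mk0] at this
            simp [← this]⟩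
    have hu : ∀ (H : Subgroup SL2), tv zero_ne_one2 1 ∈ H → ∀ t : F, tv zero_ne_one2 t ∈ H := by
      intro H h t
      obtain ⟨z, rfl⟩ := hz t
      let φ : Multiplicative F →* SL2 := MonoidHom.mk' (fun a => tv zero_ne_one2 a.toAdd)
        fun a b => Matrix.SpecialLinearGroup.transvection_add zero_ne_one2 _ _
      have : φ (Multiplicative.ofAdd (1 : F) ^ z) ∈ H := by
        rw [map_zpow]; exact zpow_mem h z
      simpa [φ, ← ofAdd_zsmul] using this
    refine ⟨tv zero_ne_one2 1, w2, mem_of_upper_w2 (hu _ (Subgroup.subset_closure (by simp)))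
      (Subgroup.subset_closure (by simp)), ?_⟩
    have hup : ∀ t, (tv zero_ne_one2 t : SL2) ∈ Subgroup.normalClosure {(tv zero_ne_one2 1 : SL2)} :=
      hu _ (Subgroup.subset_normalClosure rfl)
    rw [eq_top_iff]
    intro A _
    refine sl2_induction (p := fun A => A ∈ Subgroup.normalClosure {(tv zero_ne_one2 1 : SL2)})
      (one_mem _) (fun _ _ a b => mul_mem a b) hup (fun t => ?_) A
    have := Subgroup.normalClosure_normal.conj_mem _ (hup (-t)) (w2 : SL2)
    rwa [w2_u, neg_neg, mul_inv_cancel_right] at this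
  · -- the diagonal generator and u(1) w
    have hne : (ω : F) ^ 2 - 1 ≠ 0 := sub_ne_zero.2 h1
    have hsq : ((ω : F) ^ 2) = (ω : F) * ((ω⁻¹ : Fˣ) : F)⁻¹ := by simp [pow_two]
    have hd : ∀ (c : Fˣ) (t : F), (dg c : SL2) * tv zero_ne_one2 t * (dg c)⁻¹ = tv zero_ne_one2 ((c : F) ^ 2 * t) := by
      intro c t
      rw [dg_u, mul_inv_cancel_right]
      congr 1
      field_simp
    refine ⟨dg ω, tv zero_ne_one2 1 * w2, ?_, ?_⟩
    · set H : Subgroup SL2 := Subgroup.closure {dg ω, tv zero_ne_one2 1 * w2}
      have hh : (dg ω : SL2) ∈ H := Subgroup.subset_closure (by simp)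
      have hs : (tv zero_ne_one2 1 * w2 : SL2) ∈ H := Subgroup.subset_closure (by simp)
      let A : AddSubgroup F :=
        { carrier := {t | (tv zero_ne_one2 t : SL2) ∈ H}
          zero_mem' := by
            show (tv zero_ne_one2 (0 : F) : SL2) ∈ H
            rw [show (tv zero_ne_one2 (0 : F) : SL2) = 1 from
              Matrix.SpecialLinearGroup.transvection_coeff_zero zero_ne_one2]
            exact one_mem _
          add_mem' := fun {a b} ha hb => by
            show (tv zero_ne_one2 (a + b) : SL2) ∈ H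
            rw [show (tv zero_ne_one2 (a + b) : SL2) = _ from
              Matrix.SpecialLinearGroup.transvection_add zero_ne_one2 a b]
            exact mul_mem ha hb
          neg_mem' := fun {a} ha => by
            show (tv zero_ne_one2 (-a) : SL2) ∈ H
            rw [show (tv zero_ne_one2 (-a) : SL2) = _ from
              (Matrix.SpecialLinearGroup.transvection_inv zero_ne_one2 a).symm]
            exact inv_mem ha }
      have hmul : ∀ a ∈ A, (ω : F) ^ 2 * a ∈ A := fun a ha => by
        show (tv zero_ne_one2 _ : SL2) ∈ H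
        rw [← hd]; exact mul_mem (mul_mem hh ha) (inv_mem hh)
      have hc : (ω : F) ^ 2 - 1 ∈ A := by
        show (tv zero_ne_one2 ((ω : F) ^ 2 - 1) : SL2) ∈ H
        have e1 : (dg ω : SL2) * (tv zero_ne_one2 1 * w2) * dg ω = tv zero_ne_one2 ((ω : F) ^ 2) * w2 := by
          have hwd : (w2 : SL2) * dg ω = (dg ω)⁻¹ * w2 := by
            rw [← map_inv]
            apply sl2_ext <;> simp [w2_coe, dg_coe, Matrix.mul_apply, Fin.sum_univ_two]
          rw [mul_assoc, mul_assoc, hwd, ← mul_assoc, ← mul_assoc]
          congr 1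
          have := hd ω 1
          rw [mul_one] at this
          exact this
        have e2 : (tv zero_ne_one2 ((ω : F) ^ 2 - 1) : SL2) =
            (dg ω : SL2) * (tv zero_ne_one2 1 * w2) * dg ω * (tv zero_ne_one2 1 * w2)⁻¹ := by
          rw [e1, _root_.mul_inv_rev, mul_assoc, ← mul_assoc w2, mul_inv_cancel, one_mul,
            Matrix.SpecialLinearGroup.transvection_inv, sub_eq_add_neg,
            show (tv zero_ne_one2 ((ω : F) ^ 2 + -1) : SL2) = _ from
              Matrix.SpecialLinearGroup.transvection_add zero_ne_one2 _ _]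
        rw [e2]
        exact mul_mem (mul_mem (mul_mem hh hs) hh) (inv_mem hs)
      have hu : ∀ t : F, (tv zero_ne_one2 t : SL2) ∈ H := mem_of_square_stable ω hω A hne hc hmul
      refine mem_of_upper_w2 hu ?_
      have := mul_mem (inv_mem (hu 1)) hs
      rwa [inv_mul_cancel_left] at this
    · set H : Subgroup SL2 := Subgroup.normalClosure {dg ω}
      have hh : (dg ω : SL2) ∈ H := Subgroup.subset_normalClosure rfl
      have hN : H.Normal := Subgroup.normalClosure_normal
      have hu : ∀ t : F, (tv zero_ne_one2 t : SL2) ∈ H := fun t => by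
        have := mul_mem hh (hN.conj_mem _ (inv_mem hh) (tv zero_ne_one2 (t / ((ω : F) ^ 2 - 1))))
        rw [← mul_assoc, ← mul_assoc, hd, Matrix.SpecialLinearGroup.transvection_inv] at this
        rw [show (tv zero_ne_one2 t : SL2) = tv zero_ne_one2 ((ω : F) ^ 2 * (t / ((ω : F) ^ 2 - 1))) *
          tv zero_ne_one2 (-(t / ((ω : F) ^ 2 - 1))) by
            rw [← show (tv zero_ne_one2 (_ + _) : SL2) = _ from
              Matrix.SpecialLinearGroup.transvection_add zero_ne_one2 _ _]
            congr 1
            field_simp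
            ring]
        exact this
      rw [eq_top_iff]
      intro A _
      refine sl2_induction (p := fun A => A ∈ H) (one_mem _) (fun _ _ a b => mul_mem a b) hu (fun t => ?_) A
      have := hN.conj_mem _ (hu (-t)) (w2 : SL2)
      rwa [w2_u, neg_neg, mul_inv_cancel_right] at this

/-- SL_m from two elements. -/
theorem exists_pair_sl [Fintype F] (m : ℕ) (hm : 3 ≤ m) :
    ∃ x y : Matrix.SpecialLinearGroup (Fin m) F, Subgroup.closure {x, y} = ⊤ := by
  by_cases h3 : m = 3
  · subst h3
    obtain ⟨u, g, -, -, h⟩ := S2278.result (F := F)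
    exact ⟨_, _, h⟩
  · haveI : NeZero m := ⟨by omega⟩
    obtain ⟨u, g, -, h⟩ := RegUnip.Pair.twoConj_all (F := F) (n := m) (by omega)
    exact ⟨_, _, h⟩

/-- SL_m at the indices of an injective map. -/
def emF {m N : ℕ} (f : Fin m → Fin N) (hf : Function.Injective f) :
    Matrix.SpecialLinearGroup (Fin m) F →* Matrix.SpecialLinearGroup (Fin N) F where
  toFun A := ⟨1 + Matrix.of (fun i k => if i = f k then (1 : F) else 0) * (A.1 - 1) *
      (Matrix.of (fun i k => if i = f k then (1 : F) else 0))ᵀ, by
    have hE : (Matrix.of (fun i k => if i = f k then (1 : F) else 0))ᵀ *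
        Matrix.of (fun i k => if i = f k then (1 : F) else 0) = (1 : Matrix (Fin m) (Fin m) F) := by
      ext k l
      rw [Matrix.mul_apply, Finset.sum_eq_single (f k) (fun j _ hj => by simp [hj]) (by simp)]
      simp [Matrix.one_apply, hf.eq_iff]
    rw [Matrix.mul_assoc, Matrix.det_one_add_mul_comm, Matrix.mul_assoc, hE, Matrix.mul_one, add_sub_cancel]
    exact A.2⟩
  map_one' := Subtype.ext (by simp)
  map_mul' A B := by
    apply Subtype.ext
    have hE : (Matrix.of (fun i k => if i = f k then (1 : F) else 0))ᵀ *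
        Matrix.of (fun i k => if i = f k then (1 : F) else 0) = (1 : Matrix (Fin m) (Fin m) F) := by
      ext k l
      rw [Matrix.mul_apply, Finset.sum_eq_single (f k) (fun j _ hj => by simp [hj]) (by simp)]
      simp [Matrix.one_apply, hf.eq_iff]
    set E : Matrix (Fin N) (Fin m) F := Matrix.of (fun i k => if i = f k then (1 : F) else 0)
    show 1 + E * ((A * B).1 - 1) * Eᵀ = (1 + E * (A.1 - 1) * Eᵀ) * (1 + E * (B.1 - 1) * Eᵀ)
    rw [Matrix.SpecialLinearGroup.coe_mul]
    have hX : ∀ X Y : Matrix (Fin m) (Fin m) F, (E * X * Eᵀ) * (E * Y * Eᵀ) = E * (X * Y) * Eᵀ := by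
      intro X Y
      simp only [Matrix.mul_assoc]
      rw [← Matrix.mul_assoc Eᵀ E, hE, Matrix.one_mul]
    rw [add_mul, one_mul, mul_add, mul_one, hX, ← add_assoc, add_assoc (1 : Matrix (Fin N) (Fin N) F),
      add_assoc (1 : Matrix (Fin N) (Fin N) F), ← Matrix.add_mul, ← Matrix.add_mul, ← Matrix.mul_add,
      ← Matrix.mul_add]
    congr 3
    noncomm_ring

theorem emF_tv {m N : ℕ} {f : Fin m → Fin N} (hf : Function.Injective f) {i j : Fin m} (h : i ≠ j) (t : F) :
    emF f hf (tv h t) = tv (hf.ne h) t := by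
  apply Subtype.ext
  change (1 : Matrix (Fin N) (Fin N) F) + Matrix.of (fun a k => if a = f k then (1 : F) else 0) *
      ((1 + Matrix.single i j t : Matrix (Fin m) (Fin m) F) - 1) *
      (Matrix.of (fun a k => if a = f k then (1 : F) else 0))ᵀ = 1 + Matrix.single (f i) (f j) t
  rw [add_sub_cancel_left]
  congr 1
  ext a b
  rw [Matrix.mul_apply, Finset.sum_eq_single j]
  · rw [Matrix.mul_apply, Finset.sum_eq_single i]
    · simp only [Matrix.of_apply, Matrix.transpose_apply, Matrix.single_apply]
      split_ifs <;> simp_all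
    · intro x _ hx
      simp [Ne.symm hx]
    · simp
  · intro x _ hx
    rw [Matrix.mul_apply, Finset.sum_eq_zero (fun y _ => ?_), zero_mul]
    simp [Ne.symm hx]
  · simp

/-- SL_m is generated by the elements x_ij(t): an induction principle. -/
theorem sl_le {m : ℕ} {H : Subgroup (Matrix.SpecialLinearGroup (Fin m) F)}
    (h : ∀ (i j : Fin m) (hij : i ≠ j) (t : F), tv hij t ∈ H) : H = ⊤ := by
  rw [eq_top_iff, ← Linear.closure_slTvSet, Subgroup.closure_le]
  rintro _ ⟨i, j, hij, t, rfl⟩
  exact h i j hij t

end Cfsg.Agent.OrthPresent
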