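/-
Systems of root values over the orthogonal group: the model side of the short presentations.

* `DRels.map`, `mem_all`, `over_of_base`: a system is fixed by SL_N and the fork pair.
* `gam_orels`: the values generate Ω.
* `Wp`: the double swap of two planes; `inj_of_sq`: a square root of the identity kills the kernel.
-/
import Cfsg.Agent.Lib.CurtisTitsD.Inj

set_option autoImplicit false

open Matrix
open QuadraticMap (polar)
open scoped commutatorElement

namespace Cfsg.Agent.OrthPresent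

open CurtisTitsA CurtisTitsD Cfsg.Agent.Orth
open Cfsg.Agent.OrthAct (quadPlus quadPlus_coe quadPlus_nondegenerate)

variable {F : Type*} [Field F] {N : ℕ} {G : Type*} [Group G]

local notation "SI" => (Fin N ⊕ Fin N)
local notation "SL2" => Matrix.SpecialLinearGroup (Fin 2) F

/-- The image of a system. -/
def mapRels {H : Type*} [Group H] (f : G →* H) (D : DRels F G N) : DRels F H N where
  R a b t := f (D.R a b t)
  swap a b t h := congrArg f (D.swap a b t h)
  add a b t u h := by rw [← map_mul, D.add a b t u h]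
  comm a b c e t u h h' h1 h2 h3 h4 := (D.comm a b c e t u h h' h1 h2 h3 h4).map f
  comm' a b t u h := (D.comm' a b t u h).map f
  mid a b e t u h h' h'' := by rw [← map_commutatorElement, D.mid a b e t u h h' h'']

theorem exists_adm3 (hN : 3 ≤ N) (a b : SI) : ∃ c : Fin N, sx a ≠ c ∧ sx b ≠ c := by
  have h : ({sx a, sx b} : Finset (Fin N)).card < (Finset.univ : Finset (Fin N)).card := by
    simp only [Finset.card_univ, Fintype.card_fin]
    exact lt_of_le_of_lt Finset.card_le_two (by omega)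
  obtain ⟨c, -, hc⟩ := Finset.exists_mem_notMem_of_card_lt_card h
  simp only [Finset.mem_insert, Finset.mem_singleton, not_or] at hc
  exact ⟨c, Ne.symm hc.1, Ne.symm hc.2⟩

theorem closure_commutator_mem {H : Subgroup G} {a b : G} (ha : a ∈ H) (hb : b ∈ H) : ⁅a, b⁆ ∈ H := by
  rw [commutatorElement_def]
  exact mul_mem (mul_mem (mul_mem ha hb) (inv_mem ha)) (inv_mem hb)

/-- All values, from those of SL_N and of one more pair. -/
theorem mem_all (D : DRels F G N) (H : Subgroup G) {p r : Fin N} (hpr : p ≠ r)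
    (hlin : ∀ a b : Fin N, a ≠ b → ∀ t, D.R (Sum.inl a) (Sum.inr b) t ∈ H)
    (hup : ∀ t, D.R (Sum.inl p) (Sum.inl r) t ∈ H) (hdn : ∀ t, D.R (Sum.inr p) (Sum.inr r) t ∈ H)
    {a b : SI} (h : Adm a b) (t : F) : D.R a b t ∈ H := by
  have adm : ∀ {a b : SI}, sx a ≠ sx b → Adm a b := fun h => Adm.of_idx h
  have hlin' : ∀ a b : Fin N, a ≠ b → ∀ t, D.R (Sum.inr a) (Sum.inl b) t ∈ H := fun a b hab t => by
    rw [D.swap (Sum.inl b) (Sum.inr a) t (adm (Ne.symm hab))]
    exact hlin b a (Ne.symm hab) _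
  -- one sign
  have side : ∀ (s : Fin N → SI) (_ : ∀ i, sx (s i) = i)
      (_ : ∀ a b : Fin N, a ≠ b → ∀ t, D.R (s a) (bar (s b)) t ∈ H)
      (_ : ∀ t, D.R (s p) (s r) t ∈ H) (a b : Fin N) (_ : a ≠ b) (t : F), D.R (s a) (s b) t ∈ H := by
    intro s hs hl hb
    have sne : ∀ {a b : Fin N}, a ≠ b → Adm (s a) (s b) := fun {a b} hab => adm (by rw [hs, hs]; exact hab)
    have step : ∀ a b e : Fin N, a ≠ b → b ≠ e → a ≠ e → (∀ t, D.R (s b) (s e) t ∈ H) →
        ∀ t, D.R (s a) (s e) t ∈ H := by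
      intro a b e hab hbe hae h' t
      have hadm : Adm (s a) (bar (s b)) := adm fun e => hab (by
        rw [← hs a, ← hs b, e, sx, sx, idx_bar])
      have := D.mid (s a) (bar (s b)) (s e) t 1 hadm (by rw [bar_bar]; exact sne hbe) (sne hae)
      rw [bar_bar, mul_one] at this
      rw [← this]
      exact closure_commutator_mem (hl a b hab t) (h' 1)
    have hsw : ∀ a b : Fin N, a ≠ b → (∀ t, D.R (s a) (s b) t ∈ H) → ∀ t, D.R (s b) (s a) t ∈ H :=
      fun a b hab h' t => by rw [D.swap _ _ t (sne hab)]; exact h' _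
    have tor : ∀ a, a ≠ r → ∀ t, D.R (s a) (s r) t ∈ H := by
      intro a ha
      by_cases hap : a = p
      · subst hap; exact hb
      · exact step a p r hap hpr ha hb
    intro a b hab t
    by_cases hbr : b = r
    · subst hbr; exact tor a hab t
    by_cases har : a = r
    · subst har; exact hsw b a hbr (tor b hbr) t
    exact step a r b har (Ne.symm hbr) hab (hsw b r hbr (tor b hbr)) t
  have hab := h.idx
  rcases a with a | a <;> rcases b with b | b
  · exact side Sum.inl (fun _ => rfl) hlin hup a b hab t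
  · exact hlin a b hab t
  · exact hlin' a b hab t
  · exact side Sum.inr (fun _ => rfl) hlin' hdn a b hab t

/-- A system is over the orthogonal one once it is so on SL_N and on one more pair. -/
theorem over_of_base (D : DRels F G N) (π : G →* IsoGrp (quadPlus N F)) {p r : Fin N} (hpr : p ≠ r)
    (hlin : ∀ a b : Fin N, a ≠ b → ∀ t, π (D.R (Sum.inl a) (Sum.inr b) t) = RO F (Sum.inl a) (Sum.inr b) t)
    (hup : ∀ t, π (D.R (Sum.inl p) (Sum.inl r) t) = RO F (Sum.inl p) (Sum.inl r) t)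
    (hdn : ∀ t, π (D.R (Sum.inr p) (Sum.inr r) t) = RO F (Sum.inr p) (Sum.inr r) t)
    {a b : SI} (h : Adm a b) (t : F) : π (D.R a b t) = RO F a b t := by
  let E := (mapRels π D).prod (orels (F := F) (N := N))
  let H : Subgroup (IsoGrp (quadPlus N F) × IsoGrp (quadPlus N F)) :=
    MonoidHom.eqLocus (MonoidHom.fst _ _) (MonoidHom.snd _ _)
  exact mem_all E H hpr hlin hup hdn h t

variable [Finite F]

theorem P_map {H : Type*} [Group H] (f : G →* H) (D : DRels F G N) (hN : 3 ≤ N) {x y : SI} (h : Adm x y)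
    (A : SL2) : (mapRels f D).P x y A = f (D.P x y A) := by
  refine (DFunLike.congr_fun ((mapRels f D).P_ext (φ := f.comp (D.P x y)) hN h (fun t => ?_) fun t => ?_) A).symm
  · show f (D.P x y _) = _
    rw [(D.P_spec hN h t).1]; rfl
  · show f (D.P x y _) = _
    rw [(D.P_spec hN h t).2]; rfl

theorem Over_P {D : DRels F G N} {π : G →* IsoGrp (quadPlus N F)}
    (hπ : ∀ a b t, Adm a b → π (D.R a b t) = RO F a b t) (hN : 3 ≤ N) {x y : SI} (h : Adm x y) (A : SL2) :
    π (D.P x y A) = (orels (F := F)).P x y A := by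
  refine DFunLike.congr_fun ((orels (F := F)).P_ext (φ := π.comp (D.P x y)) hN h (fun t => ?_) fun t => ?_) A
  · show π (D.P x y _) = _
    rw [(D.P_spec hN h t).1]; exact hπ _ _ _ h.bar_right
  · show π (D.P x y _) = _
    rw [(D.P_spec hN h t).2]; exact hπ _ _ _ h.symm.bar_right

/-- The values generate Ω. -/
theorem gam_orels (hN : 3 ≤ N) : Gam (orels (F := F) (N := N)) 0 = Omega F ⇑(quadPlus N F) := by
  have : Fintype F := Fintype.ofFinite F
  have hG : Orth.Good (quadPlus N F) := ⟨quadPlus_nondegenerate N, Or.inr (by simp; omega)⟩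
  have h5 : 5 ≤ Fintype.card SI := by simp; omega
  let i0 : Fin N := ⟨0, by omega⟩
  have hp : HPair (quadPlus N F) (ev F (Sum.inl i0)) (ev F (Sum.inr i0)) :=
    ⟨Q_ev' _, Q_ev' _, by rw [polar_ev]; exact if_pos rfl⟩
  refine le_antisymm ?_ ?_
  · rw [omega_eq_eichGen hG (by omega) (Or.inr h5), Gam, Subgroup.closure_le]
    rintro _ ⟨a, b, t, -, -, -, rfl⟩
    exact eich_mem_eichGen _ _
  · rw [omega_eq_eichPair hG (by omega) (Or.inr h5) hp, eichPair, Subgroup.closure_le]
    have hov : Over (orels (F := F) (N := N)) (MonoidHom.id _) := fun a b t _ => rfl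
    rintro _ ⟨w, hw, h⟩
    obtain ⟨w1, w2⟩ := mem_perp.1 hw
    rw [polar_ev_left] at w1 w2
    rcases h with rfl | rfl
    · have := hov.eich_mem (Sum.inl i0) w2 w1
      rwa [Subgroup.map_id] at this
    · have := hov.eich_mem (Sum.inr i0) w1 w2
      rwa [Subgroup.map_id] at this

/-- The double swap of the planes p and r. -/
noncomputable def Wp (D : DRels F G N) (p r : Fin N) : G := Δ D p r (w2⁻¹) w2

theorem Wp_sq (D : DRels F G N) (hN : 3 ≤ N) {p r : Fin N} (hpr : p ≠ r) :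
    Wp D p r * Wp D p r = Δ D p r CurtisTitsA.negOne CurtisTitsA.negOne := by
  have hadm : Adm (Sum.inl p : SI) (Sum.inl r) := Adm.of_idx hpr
  have e1 : ((w2 : SL2)⁻¹) * w2⁻¹ = CurtisTitsA.negOne := by
    rw [← _root_.mul_inv_rev, w2_mul_self, ← negOne_eq_dg, inv_eq_iff_mul_eq_one.2 negOne_mul_self]
  have h := D.P_range_commute hN hadm (w2 : SL2)⁻¹ (w2 : SL2)
  change Commute (D.P (Sum.inl p) (Sum.inl r) w2⁻¹) (D.P (Sum.inl p) (Sum.inr r) w2) at h
  rw [Wp, Δ, Δ, mul_assoc, ← mul_assoc (D.P (Sum.inl p) (Sum.inr r) w2), ← h.eq, mul_assoc, ← map_mul,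
    ← mul_assoc, ← map_mul, e1, w2_mul_self, ← negOne_eq_dg]

theorem w2_inv_coe : ((w2 : SL2)⁻¹).1 = !![0, 1; -1, 0] := by
  rw [Matrix.SpecialLinearGroup.coe_inv, w2_coe, Matrix.adjugate_fin_two_of]
  simp

theorem Wp_ap (hN : 3 ≤ N) {p r : Fin N} (hpr : p ≠ r) (x : SI) :
    ap (Wp (orels (F := F) (N := N)) p r) (ev F x) =
      ev F (if sx x = p ∨ sx x = r then bar x else x) := by
  set O : DRels F (IsoGrp (quadPlus N F)) N := orels
  have hov : Over O (MonoidHom.id _) := fun a b t _ => rfl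
  have hadm : ∀ a b : SI, sx a = p → sx b = r → Adm a b := fun a b ha hb =>
    Adm.of_idx (by show sx a ≠ sx b; rw [ha, hb]; exact hpr)
  have hτ : τ (w2 : SL2) = w2 := τ_w2
  have hτi : τ ((w2 : SL2)⁻¹) = w2⁻¹ := by rw [map_inv, hτ]
  have act : ∀ (x y : SI), sx x = p → sx y = r →
      (ap (O.P x y w2) (ev F x) = ev F y ∧ ap (O.P x y w2) (ev F y) = -ev F x) ∧
      (ap (O.P x y w2⁻¹) (ev F x) = -ev F y ∧ ap (O.P x y w2⁻¹) (ev F y) = ev F x) := by
    intro x y hx hy
    obtain ⟨e1, e2⟩ := hov.ap_P hN (hadm x y hx hy) (w2 : SL2)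
    obtain ⟨e3, e4⟩ := hov.ap_P hN (hadm x y hx hy) ((w2 : SL2)⁻¹)
    simp only [MonoidHom.id_apply] at e1 e2 e3 e4
    rw [e1, e2, e3, e4]
    simp [w2_coe, w2_inv_coe]
  have bm : O.P (Sum.inl p) (Sum.inl r) w2⁻¹ = O.P (Sum.inr p) (Sum.inr r) w2⁻¹ := by
    have := O.P_bar hN (x := Sum.inl p) (y := Sum.inl r) (hadm _ _ rfl rfl) ((w2 : SL2)⁻¹)
    rw [hτi] at this; exact this.symm
  have bp : O.P (Sum.inl p) (Sum.inr r) w2 = O.P (Sum.inr p) (Sum.inl r) w2 := by
    have := O.P_bar hN (x := Sum.inl p) (y := Sum.inr r) (hadm _ _ rfl rfl) (w2 : SL2)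
    rw [hτ] at this; exact this.symm
  show ap (O.P (Sum.inl p) (Sum.inl r) w2⁻¹ * O.P (Sum.inl p) (Sum.inr r) w2) (ev F x) = _
  rw [ap_mul]
  by_cases hx : sx x = p ∨ sx x = r
  · rw [if_pos hx]
    rcases hx with hx | hx <;> rcases eq_inl_or_inr x with e | e <;> rw [sx] at hx <;> rw [e, hx]
    · rw [((act (Sum.inl p) (Sum.inr r) rfl rfl).1).1, bm, ((act (Sum.inr p) (Sum.inr r) rfl rfl).2).2]; rfl
    · rw [bp, ((act (Sum.inr p) (Sum.inl r) rfl rfl).1).1, ((act (Sum.inl p) (Sum.inl r) rfl rfl).2).2]; rfl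
    · rw [bp, ((act (Sum.inr p) (Sum.inl r) rfl rfl).1).2, map_neg, bm,
        ((act (Sum.inr p) (Sum.inr r) rfl rfl).2).1, neg_neg]; rfl
    · rw [((act (Sum.inl p) (Sum.inr r) rfl rfl).1).2, map_neg, ((act (Sum.inl p) (Sum.inl r) rfl rfl).2).1,
        neg_neg]; rfl
  · rw [if_neg hx]
    push Not at hx
    have hne : ∀ c : SI, (sx c = p ∨ sx c = r) → Adm c x := fun c hc =>
      Adm.of_idx (by show sx c ≠ sx x; rcases hc with h | h <;> rw [h] <;> [exact hx.1.symm; exact hx.2.symm])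
    have f1 := hov.ap_fix hN (hadm (Sum.inl p) (Sum.inr r) rfl rfl) (hne _ (Or.inl rfl)) (hne _ (Or.inr rfl))
      (w2 : SL2)
    have f2 := hov.ap_fix hN (hadm (Sum.inl p) (Sum.inl r) rfl rfl) (hne _ (Or.inl rfl)) (hne _ (Or.inr rfl))
      ((w2 : SL2)⁻¹)
    simp only [MonoidHom.id_apply] at f1 f2
    rw [f1, f2]

section Centre

variable (D : DRels F G N)

theorem negOne_flip (hN : 3 ≤ N) {x y a k : SI} (h : Adm x y) (ha : sx a = sx x ∨ sx a = sx y)
    (hxk : sx x ≠ sx k) (hyk : sx y ≠ sx k) (t : F) :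
    D.P x y CurtisTitsA.negOne * D.R a k t * (D.P x y CurtisTitsA.negOne)⁻¹ = D.R a k (-t) := by
  have hτ : τ (CurtisTitsA.negOne : SL2) = CurtisTitsA.negOne := by
    apply Subtype.ext
    rw [τ_two_coe, negOne_coe]
    ext i j
    fin_cases i <;> fin_cases j <;> simp
  have hb : D.P (bar x) (bar y) CurtisTitsA.negOne = D.P x y CurtisTitsA.negOne := by
    rw [D.P_bar hN h, hτ]
  have act : ∀ x y : SI, Adm x y → sx x ≠ sx k → sx y ≠ sx k →
      D.P x y CurtisTitsA.negOne * D.R x k t * (D.P x y CurtisTitsA.negOne)⁻¹ = D.R x k (-t) ∧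
      D.P x y CurtisTitsA.negOne * D.R y k t * (D.P x y CurtisTitsA.negOne)⁻¹ = D.R y k (-t) := by
    intro x y h hx hy
    have a1 : Adm x k := Adm.of_idx hx
    have a2 : Adm y k := Adm.of_idx hy
    rw [D.P_act0 hN h a1 a2, D.P_act1 hN h a1 a2]
    simp [negOne_coe, D.zero a1, D.zero a2]
  have act' := act (bar x) (bar y) h.bars (by rw [sx, idx_bar]; exact hxk) (by rw [sx, idx_bar]; exact hyk)
  rw [hb] at act'
  have cases2 : ∀ c : SI, sx a = sx c → a = c ∨ a = bar c := fun c hc => by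
    rw [sx, sx] at hc
    rcases a with a | a <;> rcases c with c | c <;> simp [bar] at hc ⊢ <;> exact hc
  rcases ha with e | e <;> rcases cases2 _ e with rfl | rfl
  · exact (act a y h hxk hyk).1
  · exact act'.1
  · exact (act x a h hxk hyk).2
  · exact act'.2

/-- The product of the two central involutions of a pair is central. -/
theorem zz_commute (hN : 3 ≤ N) {p r : Fin N} (hpr : p ≠ r) {a b : SI} (hab : Adm a b) (t : F) :
    Commute (Δ D p r CurtisTitsA.negOne CurtisTitsA.negOne) (D.R a b t) := by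
  set ε := Δ D p r CurtisTitsA.negOne CurtisTitsA.negOne
  have h1 : Adm (Sum.inl p : SI) (Sum.inl r) := Adm.of_idx hpr
  have h2 : Adm (Sum.inl p : SI) (Sum.inr r) := Adm.of_idx hpr
  have out : ∀ (a k : SI) (t : F), Adm a k → sx k ≠ p → sx k ≠ r → Commute ε (D.R a k t) := by
    intro a k t hak hkp hkr
    by_cases ha : sx a = p ∨ sx a = r
    · have e1 := negOne_flip D hN (x := Sum.inl p) (y := Sum.inl r) (a := a) (k := k) h1 ha hkp.symm hkr.symm
      have e2 := negOne_flip D hN (x := Sum.inl p) (y := Sum.inr r) (a := a) (k := k) h2 ha hkp.symm hkr.symm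
      show ε * _ = _ * ε
      rw [← mul_inv_eq_iff_eq_mul]
      show D.P (Sum.inl p) (Sum.inl r) CurtisTitsA.negOne * D.P (Sum.inl p) (Sum.inr r) CurtisTitsA.negOne *
        D.R a k t * (D.P (Sum.inl p) (Sum.inl r) CurtisTitsA.negOne *
          D.P (Sum.inl p) (Sum.inr r) CurtisTitsA.negOne)⁻¹ = D.R a k t
      rw [conj_two, e2, e1, neg_neg]
    · push Not at ha
      have hne : ∀ c : SI, (sx c = p ∨ sx c = r) → Adm c a ∧ Adm c k := fun c hc =>
        ⟨Adm.of_idx (by show sx c ≠ sx a; rcases hc with h | h <;> rw [h] <;> [exact ha.1.symm; exact ha.2.symm]),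
          Adm.of_idx (by show sx c ≠ sx k; rcases hc with h | h <;> rw [h] <;> [exact hkp.symm; exact hkr.symm])⟩
      exact (D.P_commute hN h1 hak (hne _ (Or.inl rfl)).1 (hne _ (Or.inl rfl)).2 (hne _ (Or.inr rfl)).1
        (hne _ (Or.inr rfl)).2 _ t).mul_left
        (D.P_commute hN h2 hak (hne _ (Or.inl rfl)).1 (hne _ (Or.inl rfl)).2 (hne _ (Or.inr rfl)).1
          (hne _ (Or.inr rfl)).2 _ t)
  by_cases hb : sx b ≠ p ∧ sx b ≠ r
  · exact out a b t hab hb.1 hb.2
  by_cases ha : sx a ≠ p ∧ sx a ≠ r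
  · rw [D.swap b a t hab.symm]
    exact out b a _ hab.symm ha.1 ha.2
  obtain ⟨c, hca, hcb⟩ := exists_adm3 hN a b
  have hne : sx a ≠ sx b := hab.idx
  have hcp : c ≠ p ∧ c ≠ r := by
    rcases not_and_or.1 ha with e | e <;> rcases not_and_or.1 hb with e' | e' <;> push Not at e e' <;>
      rw [e] at hne hca <;> rw [e'] at hne hcb <;>
      first | exact absurd rfl hne | exact ⟨hca.symm, hcb.symm⟩ | exact ⟨hcb.symm, hca.symm⟩
  have a1 : Adm a (Sum.inr c) := Adm.of_idx hca
  have a2 : Adm (bar (Sum.inr c : SI)) b := Adm.of_idx (by exact hcb.symm)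
  have := D.mid a (Sum.inr c) b t 1 a1 a2 hab
  rw [mul_one] at this
  rw [← this]
  have c1 := out a (Sum.inr c) t a1 hcp.1 hcp.2
  have c2 : Commute ε (D.R (bar (Sum.inr c)) b 1) := by
    rw [D.swap b (bar (Sum.inr c)) 1 a2.symm]
    exact out b _ _ a2.symm hcp.1 hcp.2
  exact ((c1.mul_right c2).mul_right c1.inv_right).mul_right c2.inv_right

end Centre

/-- A square root of 1 over the double swap kills the kernel. -/
theorem inj_of_sq {D : DRels F G N} {π : G →* IsoGrp (quadPlus N F)} (hN : 4 ≤ N)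
    (hπ : Over D π) (hgen : Gam D 0 = ⊤) {p r : Fin N} (hpN : p.val + 2 = N)
    (hrN : r.val + 1 = N) {u : G} (hu : u * u = 1) (hπu : π u = Wp (orels (F := F) (N := N)) p r) :
    Function.Injective π := by
  have h3 : 3 ≤ N := by omega
  have hpr : p ≠ r := fun e => by rw [e] at hpN; omega
  have hadm : ∀ a b : SI, sx a = p → sx b = r → Adm a b := fun a b ha hb =>
    Adm.of_idx (by show sx a ≠ sx b; rw [ha, hb]; exact hpr)
  have hPP : ∀ (x y : SI), Adm x y → ∀ A, π (D.P x y A) = (orels (F := F)).P x y A :=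
    fun x y h A => Over_P hπ h3 h A
  set ε := Δ D p r CurtisTitsA.negOne CurtisTitsA.negOne with hε
  have hεc : ε ∈ Subgroup.center G := by
    refine Subgroup.mem_center_iff.2 fun g => ?_
    have hle : Gam D 0 ≤ Subgroup.centralizer {ε} := by
      refine (Subgroup.closure_le _).2 ?_
      rintro _ ⟨a, b, t, hab, -, -, rfl⟩
      exact Subgroup.mem_centralizer_singleton_iff.2 (zz_commute D h3 hpr hab t).symm.eq
    exact Subgroup.mem_centralizer_singleton_iff.1 (hle (hgen ▸ Subgroup.mem_top g))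
  have hε2 : ε * ε = 1 := by
    have h := D.P_range_commute h3 (hadm (Sum.inl p) (Sum.inl r) rfl rfl) CurtisTitsA.negOne CurtisTitsA.negOne
    change Commute (D.P (Sum.inl p) (Sum.inl r) CurtisTitsA.negOne)
      (D.P (Sum.inl p) (Sum.inr r) CurtisTitsA.negOne) at h
    rw [hε, Δ, mul_assoc, ← mul_assoc (D.P (Sum.inl p) (Sum.inr r) _), ← h.eq, mul_assoc, ← map_mul,
      ← mul_assoc, ← map_mul, negOne_mul_self, map_one, map_one, one_mul]
  have hεπ : π ε = 1 := by
    rw [hε, Δ, map_mul, hPP _ _ (hadm _ _ rfl rfl), hPP _ _ (hadm _ _ rfl rfl)]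
    exact orels_zz h3 hpr
  let Z : Subgroup G := Subgroup.zpowers ε
  haveI : Z.Normal := ⟨fun z hz g => by
    have : z ∈ Subgroup.center G := (Subgroup.zpowers_le.2 hεc) hz
    rwa [Subgroup.mem_center_iff.1 this g, mul_inv_cancel_right]⟩
  have hZ : Z ≤ π.ker := Subgroup.zpowers_le.2 hεπ
  let π' : G ⧸ Z →* IsoGrp (quadPlus N F) := QuotientGroup.lift Z π hZ
  let D' := mapRels (QuotientGroup.mk' Z) D
  have hπ' : Over D' π' := fun a b t h => hπ a b t h
  have hzz : D'.P (Sum.inl p) (Sum.inl r) CurtisTitsA.negOne *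
      D'.P (Sum.inl p) (Sum.inr r) CurtisTitsA.negOne = 1 := by
    rw [P_map _ _ h3 (hadm _ _ rfl rfl), P_map _ _ h3 (hadm _ _ rfl rfl), ← map_mul]
    exact (QuotientGroup.eq_one_iff _).2 (Subgroup.mem_zpowers ε)
  have hinj := hπ'.inj h3 hpN hrN hzz (N - 2) (by omega)
  rw [Nat.sub_self] at hinj
  have hker : ∀ g, π g = 1 → g ∈ Z := by
    intro g hg
    refine (QuotientGroup.eq_one_iff _).1 (hinj _ ?_ hg)
    have : (QuotientGroup.mk' Z) g ∈ (Gam D 0).map (QuotientGroup.mk' Z) :=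
      Subgroup.mem_map_of_mem _ (hgen ▸ Subgroup.mem_top g)
    rw [Gam, MonoidHom.map_closure] at this
    refine Subgroup.closure_mono ?_ this
    rintro _ ⟨_, ⟨a, b, t, hab, h1, h2, rfl⟩, rfl⟩
    exact ⟨a, b, t, hab, h1, h2, rfl⟩
  have hsq : ∀ z ∈ Z, z * z = 1 := by
    rintro _ ⟨i, rfl⟩
    show ε ^ i * ε ^ i = 1
    rw [← (Commute.refl ε).mul_zpow, hε2, _root_.one_zpow]
  -- u differs from the double swap by an element of Z
  have hπW : π (Wp D p r) = π u := by
    rw [hπu, Wp, Δ, map_mul, hPP _ _ (hadm _ _ rfl rfl), hPP _ _ (hadm _ _ rfl rfl)]; rfl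
  set κ := (Wp D p r)⁻¹ * u
  have hκ : κ ∈ Z := hker _ (by rw [map_mul, map_inv, hπW, inv_mul_cancel])
  have hκc : κ ∈ Subgroup.center G := (Subgroup.zpowers_le.2 hεc) hκ
  have e1 : ε = 1 := by
    have h' : u = Wp D p r * κ := by rw [mul_inv_cancel_left]
    rw [h', mul_assoc, ← mul_assoc κ, ← Subgroup.mem_center_iff.1 hκc (Wp D p r), mul_assoc (Wp D p r) κ,
      hsq κ hκ, mul_one, Wp_sq D h3 hpr] at hu
    exact hu
  rw [← MonoidHom.ker_eq_bot_iff, eq_bot_iff]
  intro g hg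
  obtain ⟨i, hi⟩ := hker g hg
  rw [Subgroup.mem_bot, ← hi]
  show ε ^ i = 1
  rw [e1, _root_.one_zpow]

end Cfsg.Agent.OrthPresent
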