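/-
SL_N and one involution: the relations of type D_N from few of them.

* `W8`: the relations; `W8.sdat`: they give a fork datum.
* `W8.of_high`: six relations, N ≥ 5; `W8.of_low`: nine, N = 4.
-/
import Cfsg.Agent.Lib.OrthPresent.Gens

set_option autoImplicit false

open Matrix
open scoped commutatorElement

namespace Cfsg.Agent.OrthPresent

open CurtisTitsA CurtisTitsD

variable {F : Type*} [Field F] {G : Type*} [Group G] {p : ℕ}

local notation "SL[" m "]" => Matrix.SpecialLinearGroup (Fin m) F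
local notation "SL2" => Matrix.SpecialLinearGroup (Fin 2) F
local notation "PE" => (CurtisTitsA.pe : Fin (p + 2))
local notation "LA" => (CurtisTitsA.la : Fin (p + 2))

/-- The first index. -/
abbrev it (p : ℕ) : Fin (p + 2) := ⟨0, by omega⟩

/-- The second index. -/
abbrev ik (p : ℕ) : Fin (p + 2) := ⟨1, by omega⟩

theorem it_ne (hp : 2 ≤ p) : it p ≠ PE ∧ it p ≠ LA ∧ ik p ≠ PE ∧ ik p ≠ LA ∧ ik p ≠ it p := by
  simp [CurtisTitsA.pe, CurtisTitsA.la, Fin.ext_iff]; omega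

/-- The fork indices. -/
def e3 (p : ℕ) : Fin 3 → Fin (p + 2) := ![it p, CurtisTitsA.pe, CurtisTitsA.la]

theorem e3_inj (hp : 2 ≤ p) : Function.Injective (e3 p) := by
  obtain ⟨h1, h2, -⟩ := it_ne hp
  intro i j h
  fin_cases i <;> fin_cases j <;>
    simp [e3, CurtisTitsA.pe, CurtisTitsA.la, Fin.ext_iff] at h ⊢ <;> omega

/-- The indices away from the second and the last one. -/
def cmap (p : ℕ) (i : Fin p) : Fin (p + 2) :=
  ⟨if i.val = 0 then 0 else i.val + 1, by split_ifs <;> omega⟩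

theorem cmap_inj : Function.Injective (cmap p) := fun i j h => by
  simp [cmap, Fin.ext_iff] at h
  exact Fin.ext (by split_ifs at h <;> omega)

theorem exists_cmap (hp : 0 < p) {a : Fin (p + 2)} (h1 : a ≠ ik p) (h2 : a ≠ LA) : ∃ i, cmap p i = a := by
  simp [CurtisTitsA.la, Fin.ext_iff] at h1 h2
  exact ⟨⟨a.val - 1, by omega⟩, Fin.ext (by simp [cmap]; split_ifs <;> omega)⟩

/-- The fork SL_3. -/
noncomputable def Φw (hp : 2 ≤ p) (Ψ : SL[p + 2] →* G) (w : G) : SL[3] →* G :=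
  (MulAut.conj w).toMonoidHom.comp (Ψ.comp (emF (e3 p) (e3_inj hp)))

/-- The SL_2 of the last two indices, moved by w. -/
noncomputable def Lw (Ψ : SL[p + 2] →* G) (w : G) : SL2 →* G :=
  (MulAut.conj w).toMonoidHom.comp (Ψ.comp (blk PE LA CurtisTitsA.pe_ne_la))

theorem Lw_apply (Ψ : SL[p + 2] →* G) (w : G) (A : SL2) :
    Lw Ψ w A = w * Ψ (blk PE LA CurtisTitsA.pe_ne_la A) * w⁻¹ := rfl

/-- The relations between SL_N and the involution. -/
structure W8 (hp : 2 ≤ p) (Ψ : SL[p + 2] →* G) (w : G) : Prop where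
  inv : w * w = 1
  fix : ∀ (a b : Fin (p + 2)) (h : a ≠ b), a ≠ ik p → a ≠ LA → b ≠ ik p → b ≠ LA → ∀ t : F,
    Commute w (Ψ (tv h t))
  out : ∀ (i j : Fin (p + 2)) (h : i ≠ j), i ≠ PE → i ≠ LA → j ≠ PE → j ≠ LA → ∀ (t : F) (A : SL2),
    Commute (Ψ (tv h t)) (Lw Ψ w A)
  pair : ∀ A B : SL2, Commute (Ψ (blk PE LA CurtisTitsA.pe_ne_la A)) (Lw Ψ w B)
  word : w ∈ Ψ.range ⊔ (Φw hp Ψ w).range

theorem Φw_x12 (hp : 2 ≤ p) (Ψ : SL[p + 2] →* G) (w : G) (t : F) :
    Φw hp Ψ w (x12 t) = Lw Ψ w (tv zero_ne_one2 t) ∧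
      Φw hp Ψ w (x21 t) = Lw Ψ w (tv zero_ne_one2.symm t) := by
  constructor
  · show w * Ψ (emF _ _ (tv one_ne_two3 t)) * w⁻¹ = _
    rw [emF_tv, Lw_apply, blk_u]; rfl
  · show w * Ψ (emF _ _ (tv one_ne_two3.symm t)) * w⁻¹ = _
    rw [emF_tv, Lw_apply, blk_l]; rfl

theorem W8.sdat {hp : 2 ≤ p} {Ψ : SL[p + 2] →* G} {w : G} (d : W8 hp Ψ w) :
    SDat (it p) Ψ (Φw hp Ψ w) := by
  obtain ⟨h1, h2, h3, h4, h5⟩ := it_ne hp
  refine ⟨hp, ⟨h1, h2⟩, fun h t => ?_, fun h t => ?_, fun i j h a b c e t u => ?_, fun t u => ?_⟩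
  · show _ = w * Ψ (emF _ _ (tv zero_ne_one3 t)) * w⁻¹
    rw [emF_tv, eq_mul_inv_iff_mul_eq]
    exact (d.fix (it p) PE h h5.symm h2 h3.symm CurtisTitsA.pe_ne_la t).symm.eq
  · show _ = w * Ψ (emF _ _ (tv zero_ne_one3.symm t)) * w⁻¹
    rw [emF_tv, eq_mul_inv_iff_mul_eq]
    exact (d.fix PE (it p) h h3.symm CurtisTitsA.pe_ne_la h5.symm h2 t).symm.eq
  · rw [(Φw_x12 hp Ψ w u).1, (Φw_x12 hp Ψ w u).2]
    exact ⟨d.out i j h a b c e t _, d.out i j h a b c e t _⟩
  · rw [(Φw_x12 hp Ψ w u).1, (Φw_x12 hp Ψ w u).2,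
      ← blk_u CurtisTitsA.pe_ne_la, ← blk_l CurtisTitsA.pe_ne_la]
    exact ⟨d.pair _ _, d.pair _ _, d.pair _ _, d.pair _ _⟩

theorem commute_of_closure {S : Type*} [Group S] (f : S →* G) (z : G) {T : Set S}
    (hT : Subgroup.closure T = ⊤) (h : ∀ s ∈ T, Commute z (f s)) (a : S) : Commute z (f a) := by
  have hle : Subgroup.closure T ≤ (Subgroup.centralizer {z}).comap f :=
    (Subgroup.closure_le _).2 fun s hs => Subgroup.mem_centralizer_singleton_iff.2 (h s hs).symm.eq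
  exact (Subgroup.mem_centralizer_singleton_iff.1 (hle (hT ▸ Subgroup.mem_top a) : f a ∈ _) : f a * z = _).symm

theorem blk_tv_commute {N : ℕ} {a b i j : Fin N} (h : a ≠ b) (hij : i ≠ j) (h1 : i ≠ a) (h2 : i ≠ b)
    (h3 : j ≠ a) (h4 : j ≠ b) (A : SL2) (t : F) :
    Commute (blk a b h A) (tv hij t : Matrix.SpecialLinearGroup (Fin N) F) := by
  refine sl2_induction (p := fun A => Commute (blk a b h A) (tv hij t : Matrix.SpecialLinearGroup (Fin N) F))
    (by rw [map_one]; exact Commute.one_left _) (fun A B x y => by rw [map_mul]; exact x.mul_left y)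
    (fun u => ?_) (fun u => ?_) A
  · rw [blk_u]; exact CurtisTitsA.x_commute _ _ (Ne.symm h3) (Ne.symm h2) _ _
  · rw [blk_l]; exact CurtisTitsA.x_commute _ _ (Ne.symm h4) (Ne.symm h1) _ _

theorem blk_mem {N : ℕ} {a b : Fin N} (h : a ≠ b) {H : Subgroup (Matrix.SpecialLinearGroup (Fin N) F)}
    (hu : ∀ t : F, tv h t ∈ H) (hl : ∀ t : F, tv h.symm t ∈ H) (A : SL2) : blk a b h A ∈ H :=
  sl2_induction (p := fun A => blk a b h A ∈ H) (by rw [map_one]; exact one_mem _)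
    (fun A B x y => by rw [map_mul]; exact mul_mem x y) (fun t => by rw [blk_u]; exact hu t)
    (fun t => by rw [blk_l]; exact hl t) A


/-- The elements commuting with the moved SL_2. -/
noncomputable def TT (Ψ : SL[p + 2] →* G) (w : G) : Subgroup SL[p + 2] :=
  (Subgroup.centralizer ((Lw (F := F) Ψ w).range : Set G)).comap Ψ

theorem mem_TT (Ψ : SL[p + 2] →* G) (w : G) {g : SL[p + 2]} : g ∈ TT Ψ w ↔ ∀ A : SL2, Commute (Ψ g) (Lw Ψ w A) := by
  simp only [TT, Subgroup.mem_comap, Subgroup.mem_centralizer_iff, SetLike.mem_coe, MonoidHom.mem_range,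
    forall_exists_index, forall_apply_eq_imp_iff]
  exact forall_congr' fun A => eq_comm

theorem mem_TT_of (Ψ : SL[p + 2] →* G) (w : G) {x x' : SL2} (hx : Subgroup.closure {x, x'} = ⊤) {g : SL[p + 2]}
    (h1 : Commute (Ψ g) (Lw Ψ w x)) (h2 : Commute (Ψ g) (Lw Ψ w x')) : g ∈ TT Ψ w :=
  (mem_TT Ψ w).2 fun A => commute_of_closure (Lw Ψ w) (Ψ g) hx (by
    rintro s (rfl | rfl) <;> assumption) A


theorem tv_mem_TT {Ψ : SL[p + 2] →* G} {w : G} {i j : Fin (p + 2)} (h : i ≠ j) (t : F) (hw : Commute w (Ψ (tv h t)))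
    (h1 : i ≠ PE) (h2 : i ≠ LA) (h3 : j ≠ PE) (h4 : j ≠ LA) : tv h t ∈ TT Ψ w :=
  (mem_TT Ψ w).2 fun A =>
    (hw.symm.mul_right ((blk_tv_commute _ h h1 h2 h3 h4 A t).symm.map Ψ)).mul_right hw.symm.inv_right

theorem pair_of {Ψ : SL[p + 2] →* G} {w : G} {x x' : SL2} (hx : Subgroup.closure {x, x'} = ⊤) (hinv : w * w = 1)
    (h2 : blk PE LA CurtisTitsA.pe_ne_la x' ∈ TT Ψ w)
    (h1 : Commute (Ψ (blk PE LA CurtisTitsA.pe_ne_la x)) (Lw Ψ w x)) (A B : SL2) :
    Commute (Ψ (blk PE LA CurtisTitsA.pe_ne_la A)) (Lw Ψ w B) := by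
  have hwi : w⁻¹ = w := inv_eq_of_mul_eq_one_right hinv
  have e : Commute (Ψ (blk PE LA CurtisTitsA.pe_ne_la x)) (Lw Ψ w x') := by
    have := ((mem_TT Ψ w).1 h2 x).map (MulAut.conj w).toMonoidHom
    simp only [MulEquiv.coe_toMonoidHom, MulAut.conj_apply, Lw_apply, hwi] at this
    rw [show ∀ z, w * (w * z * w) * w = z from fun z => by
      rw [mul_assoc, mul_assoc, hinv, mul_one, ← mul_assoc, hinv, one_mul]] at this
    rw [Lw_apply, hwi]
    exact this.symm
  have hT : blk PE LA CurtisTitsA.pe_ne_la x ∈ TT Ψ w := mem_TT_of Ψ w hx h1 e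
  have htop : Subgroup.closure ({x, x'} : Set SL2) ≤ (TT Ψ w).comap (blk PE LA CurtisTitsA.pe_ne_la) :=
    (Subgroup.closure_le _).2 (by rintro s (rfl | rfl) <;> assumption)
  exact (mem_TT Ψ w).1 (htop (hx ▸ Subgroup.mem_top A)) B

/-- Nine relations for N = 4. -/
theorem W8.of_low {Ψ : SL[2 + 2] →* G} {w : G} {x x' : SL2} (hx : Subgroup.closure {x, x'} = ⊤)
    (hn : Subgroup.normalClosure {x} = ⊤) (hword : w ∈ Ψ.range ⊔ (Φw le_rfl Ψ w).range)
    (hinv : w * w = 1) (hf1 : Commute w (Ψ (emF (cmap 2) cmap_inj x)))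
    (hf2 : Commute w (Ψ (emF (cmap 2) cmap_inj x')))
    (hs1 : Commute (Ψ (blk (ik 2) (it 2) (by decide) x)) (Lw Ψ w x))
    (hs2 : Commute (Ψ (blk (ik 2) (it 2) (by decide) x)) (Lw Ψ w x'))
    (hg1 : Commute (Ψ (blk (ik 2) (it 2) (by decide) x' * blk CurtisTitsA.pe CurtisTitsA.la CurtisTitsA.pe_ne_la x'))
      (Lw Ψ w x))
    (hg2 : Commute (Ψ (blk (ik 2) (it 2) (by decide) x' * blk CurtisTitsA.pe CurtisTitsA.la CurtisTitsA.pe_ne_la x'))
      (Lw Ψ w x'))
    (hp1 : Commute (Ψ (blk CurtisTitsA.pe CurtisTitsA.la CurtisTitsA.pe_ne_la x)) (Lw Ψ w x)) :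
    W8 le_rfl Ψ w := by
  have hfix : ∀ (a b : Fin (2 + 2)) (h : a ≠ b), a ≠ ik 2 → a ≠ CurtisTitsA.la → b ≠ ik 2 → b ≠ CurtisTitsA.la →
      ∀ t : F, Commute w (Ψ (tv h t)) := by
    intro a b h a1 a2 b1 b2 t
    obtain ⟨i, rfl⟩ := exists_cmap (by norm_num) a1 a2
    obtain ⟨j, rfl⟩ := exists_cmap (by norm_num) b1 b2
    have := commute_of_closure (Ψ.comp (emF (cmap 2) cmap_inj)) w hx
      (by rintro s (rfl | rfl) <;> assumption) (tv (fun e => h (congrArg _ e)) t)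
    rwa [MonoidHom.comp_apply, emF_tv] at this
  set B := blk (F := F) (ik 2) (it 2) (by decide)
  set K := blk (F := F) (CurtisTitsA.pe : Fin (2 + 2)) CurtisTitsA.la CurtisTitsA.pe_ne_la
  have hBK : ∀ A C, Commute (B A) (K C) := by
    intro A C
    have : B A ∈ Subgroup.centralizer {K C} := by
      refine blk_mem _ (fun t => ?_) (fun t => ?_) A <;> rw [Subgroup.mem_centralizer_singleton_iff] <;>
        exact (blk_tv_commute _ _ (by decide) (by decide) (by decide) (by decide) C t).symm.eq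
    exact Subgroup.mem_centralizer_singleton_iff.1 this
  have hg : B x' * K x' ∈ TT Ψ w := mem_TT_of Ψ w hx hg1 hg2
  let U : Subgroup SL2 := (TT Ψ w).comap B
  have hxU : x ∈ U := mem_TT_of Ψ w hx hs1 hs2
  have hU : U = ⊤ := by
    have hconj : ∀ A, A ∈ U ↔ x' * A * x'⁻¹ ∈ U := by
      intro A
      have e : (B x' * K x') * B A * (B x' * K x')⁻¹ = B (x' * A * x'⁻¹) := by
        rw [_root_.mul_inv_rev, map_mul, map_mul, map_inv, mul_assoc (B x') (K x'), (hBK A x').symm.eq]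
        group
      constructor
      · intro hA
        show B (x' * A * x'⁻¹) ∈ TT Ψ w
        rw [← e]; exact mul_mem (mul_mem hg hA) (inv_mem hg)
      · intro hA
        show B A ∈ TT Ψ w
        have hA' : B (x' * A * x'⁻¹) ∈ TT Ψ w := hA
        rw [← e] at hA'
        have := mul_mem (mul_mem (inv_mem hg) hA') hg
        simpa [mul_assoc] using this
    have hN : U.Normal := by
      refine Subgroup.normalizer_eq_top_iff.1 (eq_top_iff.2 ?_)
      rw [← hx, Subgroup.closure_le]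
      rintro s (rfl | rfl)
      · exact Subgroup.le_normalizer hxU
      · exact Subgroup.mem_normalizer_iff.2 hconj
    rw [eq_top_iff, ← hn]
    exact Subgroup.normalClosure_le_normal (Set.singleton_subset_iff.2 hxU)
  have hBT : ∀ A, B A ∈ TT Ψ w := fun A => (hU ▸ Subgroup.mem_top A : A ∈ U)
  have hK : K x' ∈ TT Ψ w := by
    have := mul_mem (inv_mem (hBT x')) hg
    rwa [inv_mul_cancel_left] at this
  refine ⟨hinv, hfix, fun i j h a b c e t A => (mem_TT Ψ w).1 ?_ A, pair_of hx hinv hK hp1, hword⟩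
  have hall : ∀ i : Fin (2 + 2), i ≠ CurtisTitsA.pe → i ≠ CurtisTitsA.la → i = ik 2 ∨ i = it 2 := by decide
  have hi := hall i a b
  have hj := hall j c e
  rcases hi with rfl | rfl <;> rcases hj with rfl | rfl <;> first | exact absurd rfl h | skip
  · rw [← blk_u]; exact hBT _
  · rw [← blk_l]; exact hBT _

/-- Six relations for N ≥ 5. -/
theorem W8.of_high {Ψ : SL[p + 2] →* G} {w : G} (hp : 3 ≤ p) {x x' : SL2} (hx : Subgroup.closure {x, x'} = ⊤) {a b : SL[p]}
    (hab : Subgroup.closure {a, b} = ⊤) (hword : w ∈ Ψ.range ⊔ (Φw (by omega : 2 ≤ p) Ψ w).range)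
    (hf1 : Commute w (Ψ (emF (cmap p) cmap_inj a)))
    (hf2 : Ψ (emF (cmap p) cmap_inj b) * w * (Ψ (emF (cmap p) cmap_inj b))⁻¹ = w⁻¹)
    (hg1 : Commute (Ψ (blk (ik p) (it p) (it_ne (by omega)).2.2.2.2 (w2 : SL2) * blk PE LA CurtisTitsA.pe_ne_la x'))
      (Lw Ψ w x))
    (hg2 : Commute (Ψ (blk (ik p) (it p) (it_ne (by omega)).2.2.2.2 (w2 : SL2) * blk PE LA CurtisTitsA.pe_ne_la x'))
      (Lw Ψ w x'))
    (hp1 : Commute (Ψ (blk PE LA CurtisTitsA.pe_ne_la x)) (Lw Ψ w x)) :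
    W8 (by omega : 2 ≤ p) Ψ w := by
  have hp2 : 2 ≤ p := by omega
  obtain ⟨n1, n2, n3, n4, n5⟩ := it_ne hp2
  -- a perfect group normalising the cyclic group of w centralises it
  set f : SL[p] →* G := Ψ.comp (emF (cmap p) cmap_inj)
  let c : SL[p] →* MulAut G := MulAut.conj.comp f
  let K0 : Subgroup SL[p] :=
    { carrier := {A | c A w = w ∨ c A w = w⁻¹}
      one_mem' := Or.inl (by simp)
      mul_mem' := by
        intro A B hA hB
        show c (A * B) w = w ∨ c (A * B) w = w⁻¹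
        rw [map_mul, MulAut.mul_apply]
        rcases hB with e | e <;> rcases hA with e' | e' <;> simp [e, e']
      inv_mem' := by
        intro A hA
        show c A⁻¹ w = w ∨ c A⁻¹ w = w⁻¹
        rw [map_inv, MulAut.inv_def]
        rcases hA with e | e
        · exact Or.inl ((MulEquiv.symm_apply_eq _).2 e.symm)
        · exact Or.inr ((MulEquiv.symm_apply_eq _).2 (by rw [map_inv, e, inv_inv])) }
  have hK0 : K0 = ⊤ := by
    rw [eq_top_iff, ← hab, Subgroup.closure_le]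
    rintro s (rfl | rfl)
    · left
      show f _ * w * (f _)⁻¹ = w
      rw [mul_inv_eq_iff_eq_mul]; exact hf1.symm.eq
    · exact Or.inr hf2
  let K1 : Subgroup SL[p] := (Subgroup.centralizer {w}).comap f
  have hcomm : ∀ A, Commute w (f A) := by
    have hle : commutator SL[p] ≤ K1 := by
      rw [commutator_def, Subgroup.commutator_le]
      intro A _ B _
      show f ⁅A, B⁆ ∈ Subgroup.centralizer {w}
      rw [Subgroup.mem_centralizer_singleton_iff, ← mul_inv_eq_iff_eq_mul]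
      show c ⁅A, B⁆ w = w
      have mem : ∀ A, c A w = w ∨ c A w = w⁻¹ := fun A => (hK0 ▸ Subgroup.mem_top A : A ∈ K0)
      have hsw : c (A * B) w = c (B * A) w := by
        rw [map_mul, map_mul, MulAut.mul_apply, MulAut.mul_apply]
        rcases mem A with ea | ea <;> rcases mem B with eb | eb <;> simp [ea, eb]
      have e : c ((B * A) * (B * A)⁻¹) w = w := by simp
      rw [map_mul, MulAut.mul_apply] at e
      rw [show ⁅A, B⁆ = (A * B) * (B * A)⁻¹ by rw [commutatorElement_def]; group, map_mul, MulAut.mul_apply]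
      rcases mem (B * A)⁻¹ with eu | eu <;> rw [eu] at e ⊢
      · rw [hsw, e]
      · rw [map_inv (c (A * B)), hsw, ← map_inv (c (B * A)), e]
    intro A
    rw [Linear.commutator_sl_eq_top (Or.inl (by simpa using hp))] at hle
    exact (Subgroup.mem_centralizer_singleton_iff.1
      (show f A ∈ Subgroup.centralizer {w} from hle (Subgroup.mem_top A))).symm
  have hinv : w * w = 1 := by
    have e : Ψ (emF (cmap p) cmap_inj b) * w * (Ψ (emF (cmap p) cmap_inj b))⁻¹ = w := by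
      rw [mul_inv_eq_iff_eq_mul]; exact (hcomm b).symm.eq
    rw [hf2] at e
    rw [← mul_inv_cancel w, e]
  have hfix : ∀ (i j : Fin (p + 2)) (h : i ≠ j), i ≠ ik p → i ≠ LA → j ≠ ik p → j ≠ LA → ∀ t : F,
      Commute w (Ψ (tv h t)) := by
    intro i j h a1 a2 b1 b2 t
    obtain ⟨i', rfl⟩ := exists_cmap (by omega) a1 a2
    obtain ⟨j', rfl⟩ := exists_cmap (by omega) b1 b2
    have := hcomm (tv (fun e => h (congrArg _ e)) t)
    rwa [MonoidHom.comp_apply, emF_tv] at this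
  set T := TT Ψ w
  set B := blk (F := F) (ik p) (it p) n5
  set K := blk (F := F) PE LA CurtisTitsA.pe_ne_la
  have hX : ∀ (i j : Fin (p + 2)) (h : i ≠ j), i ≠ PE → i ≠ LA → i ≠ ik p → j ≠ PE → j ≠ LA → j ≠ ik p →
      ∀ t : F, tv h t ∈ T := fun i j h a1 a2 a3 b1 b2 b3 t => tv_mem_TT h t (hfix i j h a3 a2 b3 b2 t) a1 a2 b1 b2
  have hg : B w2 * K x' ∈ T := mem_TT_of Ψ w hx hg1 hg2
  have mv : ∀ {i j i' j' : Fin (p + 2)} (h : i ≠ j) (h' : i' ≠ j') (t t' : F), i ≠ PE → i ≠ LA → j ≠ PE → j ≠ LA →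
      B w2 * tv h t = tv h' t' * B w2 → tv h t ∈ T → tv h' t' ∈ T := by
    intro i j i' j' h h' t t' a1 a2 b1 b2 e hm
    have hm' := mul_mem (mul_mem hg hm) (inv_mem hg)
    have e' : B w2 * K x' * tv h t * (B w2 * K x')⁻¹ = tv h' t' := by
      have hc : Commute (K x') (tv h t) := blk_tv_commute _ h a1 a2 b1 b2 x' t
      rw [mul_assoc (B w2), hc.eq, ← mul_assoc, e]
      simp [mul_assoc]
    rwa [e'] at hm'
  have hk : ∀ l : Fin (p + 2), ∀ (hkl : ik p ≠ l), l ≠ it p → l ≠ PE → l ≠ LA → ∀ t : F,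
      tv hkl t ∈ T ∧ tv hkl.symm t ∈ T := by
    intro l hkl hlt hlp hll t
    have e1 : ∀ t : F, B w2 * tv hlt.symm t = tv hkl (-t) * B w2 := fun t => by
      have := blk_conj_fst' (F := F) n5 hkl hlt.symm w2 t
      simp only [w2_coe, Matrix.of_apply, Matrix.cons_val', Matrix.cons_val_zero, Matrix.cons_val_one,
        Matrix.empty_val', Matrix.cons_val_fin_one, zero_mul, neg_mul, one_mul] at this
      rw [this, show (tv hlt.symm (0 : F) : SL[p + 2]) = 1 from
        Matrix.SpecialLinearGroup.transvection_coeff_zero _, mul_one]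
    have hτB : τ (B w2) = B w2 := by
      show (τ.comp (blk (ik p) (it p) n5)) w2 = _
      rw [τ_blk n5, MonoidHom.comp_apply, τ_w2]
    constructor
    · have := mv hlt.symm hkl (-t) (- -t) n1 n2 hlp hll (e1 _)
        (hX _ _ _ n1 n2 n5.symm hlp hll hkl.symm _)
      rwa [neg_neg] at this
    · refine mv (hlt.symm).symm hkl.symm (-t) t hlp hll n1 n2 ?_ (hX _ _ _ hlp hll hkl.symm n1 n2 n5.symm _)
      have := congrArg (τ : SL[p + 2] →* SL[p + 2]) (e1 t)
      rwa [map_mul, map_mul, τ_tv, τ_tv, hτB, neg_neg] at this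
  have hl : ∃ l : Fin (p + 2), ik p ≠ l ∧ l ≠ it p ∧ l ≠ PE ∧ l ≠ LA :=
    ⟨⟨2, by omega⟩, by simp [CurtisTitsA.pe, CurtisTitsA.la, Fin.ext_iff]; omega⟩
  obtain ⟨l, l1, l2, l3, l4⟩ := hl
  have hall : ∀ (i j : Fin (p + 2)) (h : i ≠ j), i ≠ PE → i ≠ LA → j ≠ PE → j ≠ LA → ∀ t : F, tv h t ∈ T := by
    intro i j h a1 a2 b1 b2 t
    by_cases hi : i = ik p
    · subst hi
      by_cases hj : j = it p
      · subst hj
        rw [show (tv h t : SL[p + 2]) = ⁅tv l1 t, tv l2 1⁆ by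
          rw [Linear.transvection_mul_comm l1 l2 h t 1, mul_one]]
        exact commutatorElement_mem (hk l l1 l2 l3 l4 t).1 (hX _ _ _ l3 l4 l1.symm n1 n2 n5.symm _)
      · exact (hk j h hj b1 b2 t).1
    · by_cases hj : j = ik p
      · subst hj
        by_cases hit : i = it p
        · subst hit
          rw [show (tv h t : SL[p + 2]) = ⁅tv l2.symm t, tv l1.symm 1⁆ by
            rw [Linear.transvection_mul_comm l2.symm l1.symm h t 1, mul_one]]
          exact commutatorElement_mem (hX _ _ _ n1 n2 n5.symm l3 l4 l1.symm _) (hk l l1 l2 l3 l4 1).2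
        · exact (hk i h.symm hit a1 a2 t).2
      · exact hX i j h a1 a2 hi b1 b2 hj t
  have hK : K x' ∈ T := by
    have hB : B w2 ∈ T := blk_mem n5 (fun t => hall _ _ n5 n3 n4 n1 n2 t) (fun t => hall _ _ n5.symm n1 n2 n3 n4 t) w2
    have := mul_mem (inv_mem hB) hg
    rwa [inv_mul_cancel_left] at this
  exact ⟨hinv, hfix, fun i j h a b c e t A => (mem_TT Ψ w).1 (hall i j h a b c e t) A,
    pair_of hx hinv hK hp1, hword⟩

end Cfsg.Agent.OrthPresent
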