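/-
Short presentations of Ω⁺_{2N}.

* `w0`, `model`: the relations hold in the orthogonal group.
* `iso_omega`: a group with these relations over the orthogonal one is Ω⁺.
* `exists_pres`: a presentation of SL_N, one more generator, six (N ≥ 5) or nine (N = 4) more relations.
-/
import Cfsg.Agent.Lib.OrthPresent.Model
import Cfsg.Agent.Lib.OrthPresent.Reduce
import Cfsg.Agent.Lib.SLPresent.Counts

set_option autoImplicit false

open Matrix
open scoped commutatorElement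

namespace Cfsg.Agent.OrthPresent

open CurtisTitsA CurtisTitsD Cfsg.Agent.Orth
open Cfsg.Agent.OrthAct (quadPlus quadPlus_coe quadPlus_nondegenerate)

variable {F : Type*} [Field F] [Finite F] {p : ℕ}

local notation "SL[" m "]" => Matrix.SpecialLinearGroup (Fin m) F
local notation "SL2" => Matrix.SpecialLinearGroup (Fin 2) F
local notation "SI" => (Fin (p + 2) ⊕ Fin (p + 2))
local notation "IG" => IsoGrp (quadPlus (p + 2) F)
local notation "PE" => (CurtisTitsA.pe : Fin (p + 2))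
local notation "LA" => (CurtisTitsA.la : Fin (p + 2))

theorem adm_ii {a b : Fin (p + 2)} (h : a ≠ b) : Adm (Sum.inl a : SI) (Sum.inl b) := Adm.of_idx h

theorem adm_ir {a b : Fin (p + 2)} (h : a ≠ b) : Adm (Sum.inl a : SI) (Sum.inr b) := Adm.of_idx h

theorem adm_rr {a b : Fin (p + 2)} (h : a ≠ b) : Adm (Sum.inr a : SI) (Sum.inr b) := Adm.of_idx h

/-- SL_N inside the orthogonal group. -/
noncomputable def psi0 (hp : 2 ≤ p) : SL[p + 2] →* IG :=
  ((orels (F := F) (N := p + 2)).exists_pat (by omega) (s := Sum.inl) fun _ => Or.inl rfl).choose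

theorem psi0_tv (hp : 2 ≤ p) {a b : Fin (p + 2)} (h : a ≠ b) (t : F) :
    psi0 hp (tv h t) = RO F (Sum.inl a) (Sum.inr b) t :=
  ((orels (F := F) (N := p + 2)).exists_pat (by omega) (s := Sum.inl) fun _ => Or.inl rfl).choose_spec a b h t

theorem psi0_blk (hp : 2 ≤ p) {a b : Fin (p + 2)} (h : a ≠ b) (A : SL2) :
    psi0 hp (blk a b h A) = (orels (F := F)).P (Sum.inl a : SI) (Sum.inl b) A :=
  DFunLike.congr_fun ((orels (F := F)).P_ext (φ := (psi0 hp).comp (blk a b h)) (by omega)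
    (adm_ii h) (fun t => by rw [MonoidHom.comp_apply, blk_u, psi0_tv]; rfl)
    fun t => by rw [MonoidHom.comp_apply, blk_l, psi0_tv]; rfl) A

/-- The signed permutation of w. -/
def sg (p : ℕ) (x : Fin (p + 2) ⊕ Fin (p + 2)) : Fin (p + 2) ⊕ Fin (p + 2) :=
  if sx x = ik p ∨ sx x = CurtisTitsA.la then bar x else x

/-- The double swap in the orthogonal group. -/
noncomputable def w0 (hp : 2 ≤ p) : IG :=
  psi0 hp (blk PE (ik p) (it_ne hp).2.2.1.symm w2) * Wp (orels (F := F)) PE LA *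
    (psi0 hp (blk PE (ik p) (it_ne hp).2.2.1.symm w2))⁻¹

theorem ext_ev {g h : IG} (H : ∀ x, ap g (ev F x) = ap h (ev F x)) : g = h :=
  Subtype.ext (Units.ext (Matrix.ext_of_mulVec_single fun i => H i))

theorem w0_ap (hp : 2 ≤ p) (x : SI) : ap (w0 hp) (ev F x) = ev F (sg p x) := by
  obtain ⟨n1, n2, n3, n4, n5⟩ := it_ne hp
  have hN : 3 ≤ p + 2 := by omega
  set O : DRels F IG (p + 2) := orels
  have hov : Over O (MonoidHom.id _) := fun a b t _ => rfl
  have hadm : ∀ a b : SI, sx a = PE → sx b = ik p → Adm a b := fun a b ha hb =>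
    Adm.of_idx (by show sx a ≠ sx b; rw [ha, hb]; exact n3.symm)
  set m := O.P (Sum.inl PE) (Sum.inl (ik p)) (w2 : SL2)
  set m' := O.P (Sum.inl PE) (Sum.inl (ik p)) ((w2 : SL2)⁻¹)
  have hbar : ∀ A : SL2, τ A = A →
      O.P (Sum.inl PE) (Sum.inl (ik p)) A = O.P (Sum.inr PE) (Sum.inr (ik p)) A := fun A hA => by
    have := O.P_bar hN (x := Sum.inl PE) (y := Sum.inl (ik p)) (hadm _ _ rfl rfl) A
    rw [hA] at this; exact this.symm
  have act : ∀ s : Fin (p + 2) → SI, (s = Sum.inl ∨ s = Sum.inr) →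
      (ap m (ev F (s PE)) = ev F (s (ik p)) ∧ ap m (ev F (s (ik p))) = -ev F (s PE)) ∧
      (ap m' (ev F (s PE)) = -ev F (s (ik p)) ∧ ap m' (ev F (s (ik p))) = ev F (s PE)) := by
    intro s hs
    have e : ∀ A : SL2, τ A = A → O.P (Sum.inl PE) (Sum.inl (ik p)) A = O.P (s PE) (s (ik p)) A := by
      intro A hA
      rcases hs with rfl | rfl
      · rfl
      · exact hbar A hA
    have ha : Adm (s PE) (s (ik p)) := by rcases hs with rfl | rfl <;> exact hadm _ _ rfl rfl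
    obtain ⟨e1, e2⟩ := hov.ap_P hN ha (w2 : SL2)
    obtain ⟨e3, e4⟩ := hov.ap_P hN ha ((w2 : SL2)⁻¹)
    simp only [MonoidHom.id_apply] at e1 e2 e3 e4
    show (ap (O.P (Sum.inl PE) (Sum.inl (ik p)) w2) _ = _ ∧ ap (O.P (Sum.inl PE) (Sum.inl (ik p)) w2) _ = _) ∧
      (ap (O.P (Sum.inl PE) (Sum.inl (ik p)) w2⁻¹) _ = _ ∧ ap (O.P (Sum.inl PE) (Sum.inl (ik p)) w2⁻¹) _ = _)
    rw [e _ τ_w2, e _ (by rw [map_inv, τ_w2]), e1, e2, e3, e4]
    simp [w2_coe, w2_inv_coe]
  have fixm : ∀ z : SI, sx z ≠ PE → sx z ≠ ik p → ∀ A : SL2,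
      ap (O.P (Sum.inl PE) (Sum.inl (ik p)) A) (ev F z) = ev F z := by
    intro z h1 h2 A
    have := hov.ap_fix hN (hadm (Sum.inl PE) (Sum.inl (ik p)) rfl rfl) (z := z)
      (Adm.of_idx fun e => h1 e.symm) (Adm.of_idx fun e => h2 e.symm) A
    simpa using this
  have hW : ∀ z : SI, ap (Wp O PE LA) (ev F z) = ev F (if sx z = PE ∨ sx z = LA then bar z else z) :=
    fun z => Wp_ap hN CurtisTitsA.pe_ne_la z
  rw [w0, psi0_blk, ← map_inv, ap_mul, ap_mul]
  show ap m (ap (Wp O PE LA) (ap m' (ev F x))) = _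
  have hpl : (PE : Fin (p + 2)) ≠ LA := CurtisTitsA.pe_ne_la
  have hWb : ∀ z : SI, sx z = PE ∨ sx z = LA → ap (Wp O PE LA) (ev F z) = ev F (bar z) := fun z h => by
    rw [hW, if_pos h]
  have hWf : ∀ z : SI, sx z = ik p → ap (Wp O PE LA) (ev F z) = ev F z := fun z h => by
    rw [hW, if_neg (by rw [h]; rintro (e | e); exacts [n3 e, n4 e])]
  by_cases hk : sx x = ik p
  · rw [sg, if_pos (Or.inl hk)]
    rcases eq_inl_or_inr x with e | e <;> rw [sx] at hk <;> rw [e, hk]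
    · rw [(act Sum.inl (Or.inl rfl)).2.2, hWb _ (Or.inl rfl)]
      exact (act Sum.inr (Or.inr rfl)).1.1
    · rw [(act Sum.inr (Or.inr rfl)).2.2, hWb _ (Or.inl rfl)]
      exact (act Sum.inl (Or.inl rfl)).1.1
  by_cases hq : sx x = PE
  · rw [sg, if_neg (by rw [hq]; rintro (e | e); exacts [n3 e.symm, hpl e])]
    rcases eq_inl_or_inr x with e | e <;> rw [sx] at hq <;> rw [e, hq]
    · rw [(act Sum.inl (Or.inl rfl)).2.1, map_neg, hWf _ rfl, map_neg,
        (act Sum.inl (Or.inl rfl)).1.2, neg_neg]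
    · rw [(act Sum.inr (Or.inr rfl)).2.1, map_neg, hWf _ rfl, map_neg,
        (act Sum.inr (Or.inr rfl)).1.2, neg_neg]
  rw [fixm x hq hk, hW]
  by_cases hl : sx x = LA
  · rw [if_pos (Or.inr hl), sg, if_pos (Or.inr hl), fixm _ (by rw [sx, idx_bar]; exact hq)
      (by rw [sx, idx_bar]; exact hk)]
  · rw [if_neg (by tauto), sg, if_neg (by tauto), fixm x hq hk]

theorem sg_fix {a : Fin (p + 2)} (h1 : a ≠ ik p) (h2 : a ≠ LA) :
    sg p (Sum.inl a) = Sum.inl a ∧ sg p (Sum.inr a) = Sum.inr a :=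
  ⟨if_neg (by rintro (h | h); exacts [h1 h, h2 h]), if_neg (by rintro (h | h); exacts [h1 h, h2 h])⟩

theorem sg_la : sg p (Sum.inl LA) = Sum.inr LA ∧ sg p (Sum.inr LA) = Sum.inl LA :=
  ⟨if_pos (Or.inr rfl), if_pos (Or.inr rfl)⟩

theorem sg_sg (x : SI) : sg p (sg p x) = x := by
  unfold sg
  by_cases h : sx x = ik p ∨ sx x = LA
  · rw [if_pos h, if_pos (by simpa [sx, idx_bar] using h), bar_bar]
  · rw [if_neg h, if_neg h]

theorem w0_RO (hp : 2 ≤ p) (a b : SI) (t : F) : w0 hp * RO F a b t * (w0 hp)⁻¹ = RO F (sg p a) (sg p b) t := by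
  show _ * eich _ _ _ * _ = _
  rw [conj_eich, map_smul, w0_ap, w0_ap]
  rfl

theorem Lw0 (hp : 2 ≤ p) (A : SL2) :
    Lw (psi0 hp) (w0 (F := F) hp) A = (orels (F := F)).P (Sum.inl PE : SI) (Sum.inr LA) A := by
  obtain ⟨n1, n2, n3, n4, n5⟩ := it_ne hp
  refine DFunLike.congr_fun ((orels (F := F)).P_ext (by omega) (adm_ir CurtisTitsA.pe_ne_la)
    (fun t => ?_) fun t => ?_) A
  · rw [Lw_apply, blk_u, psi0_tv, w0_RO]
    rw [(sg_fix n3.symm CurtisTitsA.pe_ne_la).1, sg_la.2]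
    rfl
  · rw [Lw_apply, blk_l, psi0_tv, w0_RO]
    rw [(sg_fix n3.symm CurtisTitsA.pe_ne_la).2, sg_la.1]
    rfl

theorem orels_mem_of_base (hp : 2 ≤ p) {S : Subgroup IG} (hΨ : ∀ A, psi0 hp A ∈ S)
    (hL : ∀ A : SL2, Lw (psi0 hp) (w0 (F := F) hp) A ∈ S) {a b : SI} (h : Adm a b) (t : F) :
    RO F a b t ∈ S := by
  have hN : 3 ≤ p + 2 := by omega
  have hadm : Adm (Sum.inl PE : SI) (Sum.inr LA) := Adm.of_idx CurtisTitsA.pe_ne_la
  refine mem_all (orels (F := F)) S CurtisTitsA.pe_ne_la (fun a b hab t => ?_) (fun t => ?_) (fun t => ?_) h t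
  · show RO F _ _ t ∈ S
    rw [← psi0_tv hp hab]; exact hΨ _
  · have := hL (tv zero_ne_one2 t)
    rwa [Lw0, ((orels (F := F)).P_spec hN hadm t).1] at this
  · have := hL (tv zero_ne_one2.symm (-t))
    rw [Lw0, ((orels (F := F)).P_spec hN hadm (-t)).2] at this
    rw [(orels (F := F)).swap (Sum.inr LA : SI) (Sum.inr PE) t (Adm.of_idx (Ne.symm CurtisTitsA.pe_ne_la))]
    exact this

/-- The relations hold in the orthogonal group. -/
theorem model (hp : 2 ≤ p) : W8 hp (psi0 (F := F) hp) (w0 hp) := by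
  obtain ⟨n1, n2, n3, n4, n5⟩ := it_ne hp
  have hN : 3 ≤ p + 2 := by omega
  set Φ := Φw hp (psi0 (F := F) hp) (w0 hp)
  set S := (psi0 (F := F) hp).range ⊔ Φ.range
  have hΨ : ∀ A, psi0 hp A ∈ S := fun A => Subgroup.mem_sup_left ⟨A, rfl⟩
  have hL : ∀ A : SL2, Lw (psi0 hp) (w0 (F := F) hp) A ∈ S := fun A => by
    refine sl2_induction (p := fun A => Lw (psi0 hp) (w0 (F := F) hp) A ∈ S) (by rw [map_one]; exact one_mem _)
      (fun A B a b => by rw [map_mul]; exact mul_mem a b) (fun t => ?_) (fun t => ?_) A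
    · rw [← (Φw_x12 hp _ _ t).1]; exact Subgroup.mem_sup_right ⟨_, rfl⟩
    · rw [← (Φw_x12 hp _ _ t).2]; exact Subgroup.mem_sup_right ⟨_, rfl⟩
  refine ⟨?_, fun a b h a1 a2 b1 b2 t => ?_, fun i j h a b c e t A => ?_, fun A B => ?_, ?_⟩
  · refine ext_ev fun x => ?_
    rw [ap_mul, w0_ap, w0_ap, sg_sg, ap_one]
  · have := w0_RO (F := F) hp (Sum.inl a) (Sum.inr b) t
    rw [(sg_fix a1 a2).1, (sg_fix b1 b2).2, ← psi0_tv hp h] at this
    exact mul_inv_eq_iff_eq_mul.1 this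
  · rw [psi0_tv, Lw0]
    exact ((orels (F := F)).P_commute hN (adm_ir CurtisTitsA.pe_ne_la) (adm_ir h)
      (adm_ii (Ne.symm a)) (adm_ir (Ne.symm c)) (Adm.of_idx (a := (Sum.inr LA : SI)) (b := Sum.inl i) (Ne.symm b))
      (adm_rr (Ne.symm e)) A t).symm
  · rw [psi0_blk, Lw0]
    exact (orels (F := F)).P_range_commute hN (x := (Sum.inl PE : SI)) (y := Sum.inl LA)
      (adm_ii CurtisTitsA.pe_ne_la) A B
  · show w0 hp ∈ S
    have hR : ∀ {a b : SI}, Adm a b → ∀ t, RO F a b t ∈ S := fun h t => orels_mem_of_base hp hΨ hL h t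
    have hP : ∀ {x y : SI}, Adm x y → ∀ A, (orels (F := F)).P x y A ∈ S := fun h A =>
      (orels (F := F)).P_mem hN h (fun t => hR h.bar_right t) (fun t => hR h.symm.bar_right t) A
    exact mul_mem (mul_mem (hΨ _) (mul_mem (hP (adm_ii CurtisTitsA.pe_ne_la) _)
      (hP (adm_ir CurtisTitsA.pe_ne_la) _))) (inv_mem (hΨ _))

variable {G : Type*} [Group G]

/-- A group with the relations, over the orthogonal group, is Ω. -/
theorem iso_omega (hp : 2 ≤ p) {Ψ : SL[p + 2] →* G} {w : G} (d : W8 hp Ψ w) (π : G →* IG)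
    (hΨ : ∀ A, π (Ψ A) = psi0 hp A) (hw : π w = w0 hp) (hgen : Ψ.range ⊔ Subgroup.zpowers w = ⊤) :
    Nonempty (G ≃* Omega F ⇑(quadPlus (p + 2) F)) := by
  obtain ⟨n1, n2, n3, n4, n5⟩ := it_ne hp
  set Φ := Φw hp Ψ w
  let d' : SDat (it p) Ψ Φ := d.sdat
  let D : DRels F G (p + 2) := d'.drels
  have hlin : ∀ (a b : Fin (p + 2)) (h : a ≠ b) (t : F), D.R (Sum.inl a) (Sum.inr b) t = Ψ (tv h t) :=
    fun a b h t => linv_eq h t
  have hup : ∀ t, D.R (Sum.inl PE) (Sum.inl LA) t = Lw Ψ w (tv zero_ne_one2 t) := fun t =>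
    (d'.VV_base t).trans (Φw_x12 hp Ψ w t).1
  have hdn : ∀ t, D.R (Sum.inr PE) (Sum.inr LA) t = Lw Ψ w (tv zero_ne_one2.symm (-t)) := fun t => by
    refine (d'.dual.VV_base t).trans ?_
    rw [MonoidHom.comp_apply, τ_x12]
    exact (Φw_x12 hp Ψ w (-t)).2
  have hπL : ∀ A, π (Lw Ψ w A) = Lw (psi0 hp) (w0 (F := F) hp) A := fun A => by
    rw [Lw_apply, Lw_apply, map_mul, map_mul, map_inv, hw, hΨ]
  have hov : Over D π := fun a b t h => over_of_base D π CurtisTitsA.pe_ne_la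
    (fun a b hab t => by rw [hlin a b hab, hΨ, psi0_tv])
    (fun t => by
      rw [hup, hπL, Lw0, ((orels (F := F)).P_spec (by omega) (adm_ir CurtisTitsA.pe_ne_la) t).1]; rfl)
    (fun t => by
      rw [hdn, hπL, Lw0, ((orels (F := F)).P_spec (by omega) (adm_ir CurtisTitsA.pe_ne_la) (-t)).2]
      exact ((orels (F := F)).swap (Sum.inr LA : SI) (Sum.inr PE) t
        (Adm.of_idx (Ne.symm CurtisTitsA.pe_ne_la))).symm)
    h t
  have hG : ∀ {a b : SI} (_ : Adm a b) (t : F), D.R a b t ∈ Gam D 0 := fun h t =>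
    R_mem_Gam D h (Nat.zero_le _) (Nat.zero_le _) t
  have hΨG : ∀ A, Ψ A ∈ Gam D 0 := fun A => by
    have : (Gam D 0).comap Ψ = ⊤ := sl_le fun i j hij t => by
      show Ψ (tv hij t) ∈ Gam D 0
      rw [← hlin i j hij]; exact hG (adm_ir hij) t
    exact (this ▸ Subgroup.mem_top A : A ∈ (Gam D 0).comap Ψ)
  have hΦG : Φ.range ≤ Gam D 0 := by
    rw [MonoidHom.range_eq_map, ← closure_adjTvSet, MonoidHom.map_closure, Subgroup.closure_le]
    rintro _ ⟨_, ⟨i, j, hij, t, hadj, rfl⟩, rfl⟩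
    show Φ (tv hij t) ∈ Gam D 0
    fin_cases i <;> fin_cases j <;> simp at hadj
    · show Φ (x01 t) ∈ _
      rw [← d'.h01 n1 t]; exact hΨG _
    · show Φ (x10 t) ∈ _
      rw [← d'.h10 n1.symm t]; exact hΨG _
    · show Φ (x12 t) ∈ _
      rw [(Φw_x12 hp Ψ w t).1, ← hup]; exact hG (adm_ii CurtisTitsA.pe_ne_la) t
    · show Φ (x21 t) ∈ _
      rw [(Φw_x12 hp Ψ w t).2, ← neg_neg t, ← hdn]; exact hG (adm_rr CurtisTitsA.pe_ne_la) _
  have htop : Gam D 0 = ⊤ := by
    have h1 : Ψ.range ≤ Gam D 0 := by rintro _ ⟨A, rfl⟩; exact hΨG A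
    rw [eq_top_iff, ← hgen, sup_le_iff, Subgroup.zpowers_le]
    exact ⟨h1, sup_le h1 hΦG d.word⟩
  set m := Ψ (blk PE (ik p) n3.symm w2)
  have hu : (m⁻¹ * w * m) * (m⁻¹ * w * m) = 1 := by
    rw [show (m⁻¹ * w * m) * (m⁻¹ * w * m) = m⁻¹ * (w * w) * m by group, d.inv]; group
  have hinj : Function.Injective π := by
    refine inj_of_sq (by omega) hov htop (p := PE) (r := LA) (by simp [CurtisTitsA.pe])
      (by simp [CurtisTitsA.la]) hu ?_
    rw [map_mul, map_mul, map_inv, hw, hΨ, w0]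
    group
  have hrange : π.range = Omega F ⇑(quadPlus (p + 2) F) := by
    rw [← gam_orels (by omega), MonoidHom.range_eq_map, ← htop, Gam, Gam, MonoidHom.map_closure]
    congr 1
    ext g
    constructor
    · rintro ⟨_, ⟨a, b, t, h, h1, h2, rfl⟩, rfl⟩
      exact ⟨a, b, t, h, h1, h2, hov a b t h⟩
    · rintro ⟨a, b, t, h, h1, h2, rfl⟩
      exact ⟨_, ⟨a, b, t, h, h1, h2, rfl⟩, hov a b t h⟩
  exact ⟨(MonoidHom.ofInjective hinj).trans (MulEquiv.subgroupCongr hrange)⟩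

/-- Words in SL_N and one more letter. -/
abbrev Wd (F : Type*) [Field F] (p : ℕ) :=
  FreeGroup (Matrix.SpecialLinearGroup (Fin (p + 2)) F ⊕ Unit)

/-- The value of a word. -/
def evalW {H : Type*} [Group H] (P : SL[p + 2] → H) (w : H) : Wd F p →* H :=
  FreeGroup.lift (Sum.elim P fun _ => w)

omit [Finite F] in
theorem evalW_map {H K : Type*} [Group H] [Group K] (φ : H →* K) (P : SL[p + 2] → H) (w : H) (z : Wd F p) :
    φ (evalW P w z) = evalW (fun A => φ (P A)) (φ w) z := by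
  have : φ.comp (evalW P w) = evalW (fun A => φ (P A)) (φ w) :=
    FreeGroup.ext_hom _ _ fun i => by cases i <;> simp [evalW]
  exact DFunLike.congr_fun this z

/-- A presentation from a list of words forcing the relations. -/
theorem exists_pres (hp : 2 ≤ p) {l : ℕ} (rels0 : Finset (FreeGroup (Fin l)))
    (e0 : PresentedGroup (↑rels0 : Set (FreeGroup (Fin l))) ≃* SL[p + 2]) (R : List (Wd F p))
    (hmodel : ∀ r ∈ R, evalW (psi0 hp) (w0 hp) r = 1)
    (hred : ∀ {G : Type} [Group G] (Ψ : SL[p + 2] →* G) (w : G),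
      (∀ r ∈ R, evalW Ψ w r = 1) → W8 hp Ψ w) :
    ∃ rels : Finset (FreeGroup (Fin (l + 1))), rels.card ≤ rels0.card + R.length ∧
      Nonempty (PresentedGroup (↑rels : Set (FreeGroup (Fin (l + 1)))) ≃* Omega F ⇑(quadPlus (p + 2) F)) := by
  classical
  let inl : FreeGroup (Fin l) →* FreeGroup (Fin (l + 1)) := FreeGroup.map (Fin.castAdd 1)
  have hsec : ∀ A : SL[p + 2], ∃ v : FreeGroup (Fin l), PresentedGroup.mk _ v = e0.symm A := fun A =>
    PresentedGroup.mk_surjective _ _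
  choose sec hsec using hsec
  let PF : SL[p + 2] → FreeGroup (Fin (l + 1)) := fun A => inl (sec A)
  let wF : FreeGroup (Fin (l + 1)) := FreeGroup.of (Fin.natAdd l 0)
  let rels : Finset (FreeGroup (Fin (l + 1))) := rels0.image inl ∪ (R.map (evalW PF wF)).toFinset
  refine ⟨rels, (Finset.card_union_le _ _).trans
    (add_le_add Finset.card_image_le ((List.toFinset_card_le _).trans_eq (by rw [List.length_map]))), ?_⟩
  let ev' : Fin (l + 1) → IG := Fin.append (fun i => psi0 hp (e0 (PresentedGroup.of i))) ![w0 hp]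
  have hinl : ∀ v, FreeGroup.lift ev' (inl v) = psi0 hp (e0 (PresentedGroup.mk _ v)) := by
    intro v
    have : (FreeGroup.lift ev').comp inl = ((psi0 hp).comp e0.toMonoidHom).comp (PresentedGroup.mk _) :=
      FreeGroup.ext_hom _ _ fun i => by
        show FreeGroup.lift ev' (inl (FreeGroup.of i)) = psi0 hp (e0 (PresentedGroup.of i))
        simp [inl, ev', Fin.append_left]
    exact DFunLike.congr_fun this v
  have hPF : ∀ A, FreeGroup.lift ev' (PF A) = psi0 hp A := fun A => by rw [hinl, hsec, e0.apply_symm_apply]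
  have hwF : FreeGroup.lift ev' wF = w0 hp := by simp [wF, ev', Fin.append_right]
  have hrels : ∀ r ∈ (↑rels : Set (FreeGroup (Fin (l + 1)))), FreeGroup.lift ev' r = 1 := by
    intro r hr
    simp only [rels, Finset.coe_union, Finset.coe_image, Set.mem_union, Set.mem_image, Finset.mem_coe,
      List.mem_toFinset, List.mem_map] at hr
    rcases hr with ⟨r, hr, rfl⟩ | ⟨r, hr, rfl⟩
    · rw [hinl, PresentedGroup.one_of_mem (Finset.mem_coe.mpr hr), map_one, map_one]
    · rw [evalW_map, hwF]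
      simp only [hPF]
      exact hmodel r hr
  let π := PresentedGroup.toGroup hrels
  let jA : PresentedGroup (↑rels0 : Set (FreeGroup (Fin l))) →*
      PresentedGroup (↑rels : Set (FreeGroup (Fin (l + 1)))) :=
    PresentedGroup.toGroup (f := fun i => PresentedGroup.of (Fin.castAdd 1 i)) fun r hr => by
      have : FreeGroup.lift (fun i => (PresentedGroup.of (Fin.castAdd 1 i) :
          PresentedGroup (↑rels : Set (FreeGroup (Fin (l + 1)))))) = (PresentedGroup.mk _).comp inl :=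
        FreeGroup.ext_hom _ _ fun i => by simp [inl]; rfl
      rw [this]
      exact PresentedGroup.one_of_mem (Finset.mem_union_left _ (Finset.mem_image_of_mem _ hr))
  let Ψ : SL[p + 2] →* PresentedGroup (↑rels : Set (FreeGroup (Fin (l + 1)))) :=
    jA.comp e0.symm.toMonoidHom
  have hΨ : ∀ A, PresentedGroup.mk (↑rels : Set (FreeGroup (Fin (l + 1)))) (PF A) = Ψ A := fun A => by
    have : jA.comp (PresentedGroup.mk _) = (PresentedGroup.mk _).comp inl :=
      FreeGroup.ext_hom _ _ fun i => by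
        show jA (PresentedGroup.of i) = _
        simp [inl, jA]; rfl
    show _ = jA (e0.symm A)
    rw [← hsec]
    exact (DFunLike.congr_fun this (sec A)).symm
  set w : PresentedGroup (↑rels : Set (FreeGroup (Fin (l + 1)))) := PresentedGroup.of (Fin.natAdd l 0)
  have d : W8 hp Ψ w := hred Ψ w fun r hr => by
    have h1 : PresentedGroup.mk (↑rels : Set (FreeGroup (Fin (l + 1)))) (evalW PF wF r) = 1 :=
      PresentedGroup.one_of_mem (Finset.mem_union_right _ (List.mem_toFinset.2 (List.mem_map_of_mem hr)))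
    rw [evalW_map] at h1
    simp only [hΨ] at h1
    exact h1
  refine iso_omega hp d π (fun A => ?_) ?_ ?_
  · rw [← hΨ]; exact hPF A
  · exact hwF
  · rw [eq_top_iff, ← PresentedGroup.closure_range_of, Subgroup.closure_le]
    rintro _ ⟨i, rfl⟩
    induction i using Fin.addCases with
    | left i =>
      refine Subgroup.mem_sup_left ⟨e0 (PresentedGroup.of i), ?_⟩
      show jA (e0.symm _) = _
      rw [e0.symm_apply_apply]
      exact PresentedGroup.toGroup.of _
    | right i =>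
      rw [Fin.fin_one_eq_zero i]
      exact Subgroup.mem_sup_right (Subgroup.mem_zpowers _)

section Lists

omit [Finite F]

variable (F)

/-- The letter of an element of SL_N. -/
abbrev lt' (A : Matrix.SpecialLinearGroup (Fin (p + 2)) F) : Wd F p := FreeGroup.of (Sum.inl A)

/-- The involution. -/
abbrev lw (p : ℕ) : Wd F p := FreeGroup.of (Sum.inr ())

variable {F}

/-- The moved element of the last two indices. -/
noncomputable def lL (A : SL2) : Wd F p :=
  lw F p * lt' F (blk PE LA CurtisTitsA.pe_ne_la A) * (lw F p)⁻¹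

theorem eval_lt {H : Type*} [Group H] (Ψ : SL[p + 2] →* H) (w : H) (A : SL[p + 2]) :
    evalW Ψ w (lt' F A) = Ψ A := by simp [evalW]

theorem eval_lw {H : Type*} [Group H] (Ψ : SL[p + 2] →* H) (w : H) :
    evalW (F := F) (p := p) Ψ w (lw F p) = w := by simp [evalW]

theorem eval_lL {H : Type*} [Group H] (Ψ : SL[p + 2] →* H) (w : H) (A : SL2) :
    evalW Ψ w (lL A) = Lw Ψ w A := by
  rw [lL, map_mul, map_mul, map_inv, eval_lt, eval_lw, Lw_apply]

end Lists

/-- The word for w in the image of SL_N and of the moved SL_3. -/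
theorem exists_word (hp : 2 ≤ p) :
    ∃ z : Wd F p, evalW (psi0 hp) (w0 hp) z = 1 ∧
      ∀ {G : Type} [Group G] (Ψ : SL[p + 2] →* G) (w : G), evalW Ψ w z = 1 →
        w ∈ Ψ.range ⊔ (Φw hp Ψ w).range := by
  have hmem := (model (F := F) hp).word
  rw [← Subgroup.closure_eq (psi0 (F := F) hp).range, ← Subgroup.closure_eq (Φw hp (psi0 (F := F) hp) (w0 hp)).range,
    ← Subgroup.closure_union] at hmem
  set S : Set IG := ↑(psi0 (F := F) hp).range ∪ ↑(Φw hp (psi0 (F := F) hp) (w0 hp)).range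
  have key : ∀ g ∈ Subgroup.closure S, ∃ z : Wd F p, evalW (psi0 hp) (w0 hp) z = g ∧
      ∀ {G : Type} [Group G] (Ψ : SL[p + 2] →* G) (w : G), evalW Ψ w z ∈ Ψ.range ⊔ (Φw hp Ψ w).range := by
    intro g hg
    induction hg using Subgroup.closure_induction with
    | mem g hg =>
      rcases hg with ⟨A, rfl⟩ | ⟨s, rfl⟩
      · exact ⟨lt' F A, eval_lt _ _ A, fun Ψ w => by rw [eval_lt]; exact Subgroup.mem_sup_left ⟨A, rfl⟩⟩
      · refine ⟨lw F p * lt' F (emF (e3 p) (e3_inj hp) s) * (lw F p)⁻¹, ?_, fun Ψ w => ?_⟩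
        · rw [map_mul, map_mul, map_inv, eval_lt, eval_lw]; rfl
        · rw [map_mul, map_mul, map_inv, eval_lt, eval_lw]
          exact Subgroup.mem_sup_right ⟨s, rfl⟩
    | one => exact ⟨1, map_one _, fun Ψ w => by rw [map_one]; exact one_mem _⟩
    | mul a b _ _ ha hb =>
      obtain ⟨za, ha, ha'⟩ := ha
      obtain ⟨zb, hb, hb'⟩ := hb
      exact ⟨za * zb, by rw [map_mul, ha, hb], fun Ψ w => by rw [map_mul]; exact mul_mem (ha' Ψ w) (hb' Ψ w)⟩
    | inv a _ ha =>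
      obtain ⟨za, ha, ha'⟩ := ha
      exact ⟨za⁻¹, by rw [map_inv, ha], fun Ψ w => by rw [map_inv]; exact inv_mem (ha' Ψ w)⟩
  obtain ⟨z, hz, hz'⟩ := key _ hmem
  refine ⟨(lw F p)⁻¹ * z, by rw [map_mul, map_inv, eval_lw, hz, inv_mul_cancel], fun Ψ w h => ?_⟩
  rw [map_mul, map_inv, eval_lw, inv_mul_eq_one] at h
  have := hz' Ψ w
  rwa [← h] at this

theorem cmap_avoid (i : Fin p) : cmap p i ≠ ik p ∧ cmap p i ≠ LA := by
  refine ⟨fun e => ?_, fun e => ?_⟩ <;> have h := congrArg Fin.val e <;> have hi := i.isLt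
  · by_cases h0 : i.val = 0 <;> simp [cmap, h0] at h
  · by_cases h0 : i.val = 0
    · simp [cmap, h0, CurtisTitsA.la] at h
    · simp [cmap, h0, CurtisTitsA.la] at h
      omega

/-- N ≥ 5: six relations. -/
theorem exists_pres_high (hp : 3 ≤ p) {l : ℕ} (rels0 : Finset (FreeGroup (Fin l)))
    (e0 : PresentedGroup (↑rels0 : Set (FreeGroup (Fin l))) ≃* SL[p + 2]) :
    ∃ rels : Finset (FreeGroup (Fin (l + 1))), rels.card ≤ rels0.card + 6 ∧
      Nonempty (PresentedGroup (↑rels : Set (FreeGroup (Fin (l + 1)))) ≃* Omega F ⇑(quadPlus (p + 2) F)) := by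
  have : Fintype F := Fintype.ofFinite F
  have hp2 : 2 ≤ p := by omega
  obtain ⟨x, x', hx, -⟩ := exists_pair_sl2 (F := F)
  obtain ⟨a, b, hab⟩ := exists_pair_sl (F := F) p hp
  obtain ⟨zw, hzw, hzw'⟩ := exists_word (F := F) hp2
  obtain ⟨n1, n2, n3, n4, n5⟩ := it_ne hp2
  let A : Wd F p := lt' F (emF (cmap p) cmap_inj a)
  let B : Wd F p := lt' F (emF (cmap p) cmap_inj b)
  let g : Wd F p := lt' F (blk (ik p) (it p) n5 w2 * blk PE LA CurtisTitsA.pe_ne_la x')
  let K : Wd F p := lt' F (blk PE LA CurtisTitsA.pe_ne_la x)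
  obtain ⟨R, hR⟩ : ∃ R : List (Wd F p), R =
      [zw, ⁅lw F p, A⁆, B * lw F p * B⁻¹ * lw F p, ⁅g, lL x⁆, ⁅g, lL x'⁆, ⁅K, lL x⁆] := ⟨_, rfl⟩
  refine (exists_pres hp2 rels0 e0 R ?_ ?_).imp fun rels h => ⟨by
    have hc := h.1; rw [hR] at hc; simpa using hc, h.2⟩
  · have d := model (F := F) hp2
    set Ψ := psi0 (F := F) hp2
    have hfix : ∀ M : SL[p], Commute (w0 hp2) (Ψ (emF (cmap p) cmap_inj M)) := by
      intro M
      have : (Subgroup.centralizer {w0 (F := F) hp2}).comap (Ψ.comp (emF (cmap p) cmap_inj)) = ⊤ :=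
        sl_le fun i j hij t => by
          show Ψ (emF _ _ (tv hij t)) ∈ Subgroup.centralizer {w0 (F := F) hp2}
          rw [emF_tv, Subgroup.mem_centralizer_singleton_iff]
          exact (d.fix _ _ _ (cmap_avoid i).1 (cmap_avoid i).2 (cmap_avoid j).1 (cmap_avoid j).2 t).symm.eq
      exact (Subgroup.mem_centralizer_singleton_iff.1
        (show Ψ (emF (cmap p) cmap_inj M) ∈ Subgroup.centralizer {w0 (F := F) hp2} from
          (this ▸ Subgroup.mem_top M : M ∈ (Subgroup.centralizer {w0 (F := F) hp2}).comap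
            (Ψ.comp (emF (cmap p) cmap_inj))))).symm
    have hg : ∀ A : SL2, Commute (Ψ (blk (ik p) (it p) n5 w2 * blk PE LA CurtisTitsA.pe_ne_la x'))
        (Lw Ψ (w0 hp2) A) := fun A => by
      rw [map_mul]
      refine Commute.mul_left ?_ (d.pair _ _)
      exact (mem_TT Ψ (w0 hp2)).1 (blk_mem n5 (fun t => (mem_TT Ψ _).2 (d.out _ _ _ n3 n4 n1 n2 t))
        (fun t => (mem_TT Ψ _).2 (d.out _ _ _ n1 n2 n3 n4 t)) w2) A
    subst hR
    simp only [List.mem_cons, List.mem_nil_iff, or_false, forall_eq_or_imp, forall_eq, map_commutatorElement,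
      map_mul, map_inv, eval_lt, eval_lw, eval_lL, A, B, g, K, commutatorElement_eq_one_iff_commute]
    refine ⟨hzw, hfix a, ?_, by simpa using hg x, by simpa using hg x', d.pair _ _⟩
    rw [← (hfix b).eq, mul_inv_cancel_right, d.inv]
  · intro G _ Ψ w h
    subst hR
    simp only [List.mem_cons, List.mem_nil_iff, or_false, forall_eq_or_imp, forall_eq, map_commutatorElement,
      map_mul, map_inv, eval_lt, eval_lw, eval_lL, A, B, g, K, commutatorElement_eq_one_iff_commute] at h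
    obtain ⟨h1, h2, h3, h4, h5, h6⟩ := h
    exact W8.of_high hp hx hab (hzw' Ψ w h1) h2 (eq_inv_of_mul_eq_one_left h3) (by rw [map_mul]; exact h4)
      (by rw [map_mul]; exact h5) h6

/-- N = 4: nine relations. -/
theorem exists_pres_low {l : ℕ} (rels0 : Finset (FreeGroup (Fin l)))
    (e0 : PresentedGroup (↑rels0 : Set (FreeGroup (Fin l))) ≃* SL[2 + 2]) :
    ∃ rels : Finset (FreeGroup (Fin (l + 1))), rels.card ≤ rels0.card + 9 ∧
      Nonempty (PresentedGroup (↑rels : Set (FreeGroup (Fin (l + 1)))) ≃* Omega F ⇑(quadPlus (2 + 2) F)) := by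
  obtain ⟨x, x', hx, hn⟩ := exists_pair_sl2 (F := F)
  obtain ⟨zw, hzw, hzw'⟩ := exists_word (F := F) (p := 2) le_rfl
  obtain ⟨n1, n2, n3, n4, n5⟩ := it_ne (p := 2) le_rfl
  let A : Wd F 2 := lt' F (emF (cmap 2) cmap_inj x)
  let B : Wd F 2 := lt' F (emF (cmap 2) cmap_inj x')
  let s : Wd F 2 := lt' F (blk (ik 2) (it 2) n5 x)
  let g : Wd F 2 := lt' F (blk (ik 2) (it 2) n5 x' * blk CurtisTitsA.pe CurtisTitsA.la CurtisTitsA.pe_ne_la x')
  let K : Wd F 2 := lt' F (blk CurtisTitsA.pe CurtisTitsA.la CurtisTitsA.pe_ne_la x)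
  obtain ⟨R, hR⟩ : ∃ R : List (Wd F 2), R =
      [zw, lw F 2 * lw F 2, ⁅lw F 2, A⁆, ⁅lw F 2, B⁆, ⁅s, lL x⁆, ⁅s, lL x'⁆, ⁅g, lL x⁆, ⁅g, lL x'⁆, ⁅K, lL x⁆] :=
    ⟨_, rfl⟩
  refine (exists_pres le_rfl rels0 e0 R ?_ ?_).imp fun rels h => ⟨by
    have hc := h.1; rw [hR] at hc; simpa using hc, h.2⟩
  · have d := model (F := F) (p := 2) le_rfl
    set Ψ := psi0 (F := F) (p := 2) le_rfl
    have hfix : ∀ M : SL2, Commute (w0 (p := 2) le_rfl) (Ψ (emF (cmap 2) cmap_inj M)) := by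
      refine sl2_induction (by simp) (fun A B a b => by rw [map_mul, map_mul]; exact a.mul_right b)
        (fun t => ?_) (fun t => ?_) <;>
      · rw [emF_tv]; exact d.fix _ _ _ (by decide) (by decide) (by decide) (by decide) t
    have hout : ∀ M C : SL2, Commute (Ψ (blk (ik 2) (it 2) n5 M)) (Lw Ψ (w0 (p := 2) le_rfl) C) := fun M C =>
      (mem_TT Ψ _).1 (blk_mem n5 (fun t => (mem_TT Ψ _).2 (d.out _ _ _ n3 n4 n1 n2 t))
        (fun t => (mem_TT Ψ _).2 (d.out _ _ _ n1 n2 n3 n4 t)) M) C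
    subst hR
    simp only [List.mem_cons, List.mem_nil_iff, or_false, forall_eq_or_imp, forall_eq, map_commutatorElement,
      map_mul, map_inv, eval_lt, eval_lw, eval_lL, A, B, s, g, K, commutatorElement_eq_one_iff_commute]
    exact ⟨hzw, d.inv, hfix x, hfix x', hout _ _, hout _ _, (hout _ _).mul_left (d.pair _ _),
      (hout _ _).mul_left (d.pair _ _), d.pair _ _⟩
  · intro G _ Ψ w h
    subst hR
    simp only [List.mem_cons, List.mem_nil_iff, or_false, forall_eq_or_imp, forall_eq, map_commutatorElement,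
      map_mul, map_inv, eval_lt, eval_lw, eval_lL, A, B, s, g, K, commutatorElement_eq_one_iff_commute] at h
    obtain ⟨h1, h2, h3, h4, h5, h6, h7, h8, h9⟩ := h
    exact W8.of_low hx hn (hzw' Ψ w h1) h2 h3 h4 h5 h6 (by rw [map_mul]; exact h7) (by rw [map_mul]; exact h8) h9

end Cfsg.Agent.OrthPresent
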